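import Cfsg.Agent.Lib.ClassK.M23Nse.Geom.Stars
import Cfsg.Agent.Lib.Golay.SteinerExt
import Cfsg.Agent.Lib.Golay.Mathieu
import Cfsg.Agent.Lib.Golay.Stab

/-!
The stars are 23 points forming an `S(4, 7, 23)`; a group of order 10200960 acting faithfully on the
heptad structure is `M₂₃`.
-/

set_option autoImplicit false

namespace CfsgLib.ClassK.M23Nse

open Finset
open scoped Classical Pointwise

namespace Heptads

variable {V : Type*} [Fintype V] (h : Heptads V)

/-- A point is a star. -/
def IsPoint (s : Finset V) : Prop := ∃ b, ∃ c ∈ h.cls b, s = h.star b c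

/-- The points. -/
abbrev Ω := {s : Finset V // h.IsPoint s}

/-- The block of a vertex. -/
noncomputable def blk (z : V) : Finset h.Ω := univ.filter fun p => z ∈ p.1

theorem mem_blk {z : V} {p : h.Ω} : p ∈ h.blk z ↔ z ∈ p.1 := by simp [blk]

theorem exists_rebase {z : V} {p : h.Ω} (hz : z ∈ p.1) : ∃ d ∈ h.cls z, h.star z d = p.1 := by
  obtain ⟨b, c, hc, e⟩ := p.2
  obtain ⟨d, hd, e'⟩ := h.star_rebase hc (e ▸ hz)
  exact ⟨d, hd, e'.trans e.symm⟩

theorem card_blk (z : V) : (h.blk z).card = 7 := by
  rw [← h.cls_card z]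
  refine (card_bij (fun c hc => (⟨h.star z c, z, c, hc, rfl⟩ : h.Ω)) (fun c hc => ?_)
    (fun c hc c' hc' e => h.star_inj hc hc' (congrArg Subtype.val e)) (fun p hp => ?_)).symm
  · rw [mem_blk, mem_star]; exact h.w_base hc
  · obtain ⟨d, hd, e⟩ := h.exists_rebase (h.mem_blk.1 hp)
    exact ⟨d, hd, Subtype.ext e⟩

theorem card_point (p : h.Ω) : p.1.card = 77 := by
  obtain ⟨b, c, hc, e⟩ := p.2
  rw [e]; exact h.card_star hc

/-- There are 23 points. -/
theorem card_Ω : Fintype.card h.Ω = 23 := by
  have e : ∑ z : V, (h.blk z).card = ∑ p : h.Ω, p.1.card := by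
    simp only [blk, card_filter]
    rw [sum_comm]
    exact sum_congr rfl fun p _ => by simp
  rw [sum_congr rfl (fun z _ => h.card_blk z), sum_congr rfl (fun p _ => h.card_point p), sum_const,
    sum_const, card_univ, card_univ, h.card_V, smul_eq_mul, smul_eq_mul] at e
  omega

/-- Two blocks meet in at most three points. -/
theorem card_inter_le {z z' : V} (hne : z ≠ z') : (h.blk z ∩ h.blk z').card ≤ 3 := by
  set F := (h.cls z).filter fun c => z' ∈ h.star z c with hF
  have hle : (h.blk z ∩ h.blk z').card ≤ F.card := by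
    refine card_le_card_of_surjOn (fun c => if hc : c ∈ h.cls z then
      (⟨h.star z c, z, c, hc, rfl⟩ : h.Ω) else ⟨h.star z ((h.cls z).toList.headI), z, _, ?_, rfl⟩) ?_
    · obtain ⟨c₀, hc₀⟩ := card_pos.1 (by rw [h.cls_card z]; norm_num : 0 < (h.cls z).card)
      have hne' : (h.cls z).toList ≠ [] := fun e => by
        have := mem_toList.2 hc₀
        rw [e] at this
        exact List.not_mem_nil this
      rw [← mem_toList]
      obtain ⟨a, l, e⟩ := List.exists_cons_of_ne_nil hne'
      rw [e]; exact List.mem_cons_self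
    · intro p hp
      rw [mem_coe, mem_inter, mem_blk, mem_blk] at hp
      obtain ⟨d, hd, e⟩ := h.exists_rebase hp.1
      refine ⟨d, ?_, ?_⟩
      · rw [mem_coe, hF, mem_filter]; exact ⟨hd, e ▸ hp.2⟩
      · simp only [dif_pos hd]; exact Subtype.ext e
  refine hle.trans ?_
  by_cases hA : h.A z z'
  · obtain ⟨c₁, hc₁, hz'⟩ := (h.cover z z').1 hA
    have : F ⊆ {c₁} := by
      intro c hc
      rw [hF, mem_filter] at hc
      rw [mem_singleton]
      by_contra e
      have := h.mem_star.1 hc.2
      rw [h.w_other hc.1 hc₁ (Ne.symm e) hz'] at this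
      norm_num at this
    exact (card_le_card this).trans (by simp)
  · refine le_trans (card_le_card ?_) (h.card_four (Ne.symm hne) hA).le
    intro c hc
    rw [hF, mem_filter] at hc
    rw [mem_filter]
    refine ⟨hc.1, (h.far z z' (Ne.symm hne) hA c hc.1).resolve_right fun e => ?_⟩
    have := h.mem_star.1 hc.2
    rw [h.w_far hc.1 (Ne.symm hne) hA, e] at this
    norm_num at this

theorem blk_injective : Function.Injective h.blk := by
  intro z z' e
  by_contra hne
  have := h.card_inter_le hne
  rw [e, inter_self, h.card_blk] at this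
  omega

/-- The blocks. -/
def blocks : Set (Finset h.Ω) := Set.range h.blk

theorem steiner : Cfsg.IsSteinerSystem 4 7 h.blocks := by
  refine ⟨?_, fun s hs => ?_⟩
  · rintro _ ⟨z, rfl⟩
    exact h.card_blk z
  have hd : ((univ : Finset V) : Set V).PairwiseDisjoint fun z => (h.blk z).powersetCard 4 := by
    intro z _ z' _ hne
    refine disjoint_left.2 fun t ht ht' => ?_
    rw [mem_powersetCard] at ht ht'
    have := card_le_card (subset_inter ht.1 ht'.1)
    have := h.card_inter_le hne
    omega
  have hU : univ.biUnion (fun z => (h.blk z).powersetCard 4) = (univ : Finset h.Ω).powersetCard 4 := by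
    refine eq_of_subset_of_card_le (fun t ht => ?_) ?_
    · obtain ⟨z, -, hz⟩ := mem_biUnion.1 ht
      rw [mem_powersetCard] at hz ⊢
      exact ⟨subset_univ _, hz.2⟩
    · rw [card_biUnion hd, sum_congr rfl (fun z _ => by rw [card_powersetCard, h.card_blk z] :
        ∀ z ∈ univ, ((h.blk z).powersetCard 4).card = Nat.choose 7 4), sum_const, card_univ, h.card_V,
        card_powersetCard, card_univ, h.card_Ω]
      decide
  have hs' : s ∈ univ.biUnion (fun z => (h.blk z).powersetCard 4) := by
    rw [hU, mem_powersetCard]; exact ⟨subset_univ _, hs⟩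
  obtain ⟨z, -, hz⟩ := mem_biUnion.1 hs'
  refine ⟨h.blk z, ⟨⟨z, rfl⟩, (mem_powersetCard.1 hz).1⟩, ?_⟩
  rintro _ ⟨⟨z', rfl⟩, hsub⟩
  by_contra hne
  have := card_le_card (subset_inter hsub (mem_powersetCard.1 hz).1)
  have := h.card_inter_le (fun e : z' = z => hne (e ▸ rfl))
  omega

section Group

variable {G : Type*} [Group G] [MulAction G V]
  (hA : ∀ (g : G) (x y : V), h.A x y → h.A (g • x) (g • y))
  (hcls : ∀ (g : G) (b : V), ∀ c ∈ h.cls b, g • c ∈ h.cls (g • b))
include hA hcls

theorem M_smul (g : G) (x y : V) : h.M (g • x) (g • y) = h.M x y := by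
  have : h.A (g • x) (g • y) ↔ h.A x y :=
    ⟨fun e => by simpa using hA g⁻¹ _ _ e, hA g x y⟩
  simp only [M, smul_left_cancel_iff, this]

theorem w_smul (g : G) (b : V) (c : Finset V) (z : V) : h.w (g • b) (g • c) (g • z) = h.w b c z := by
  simp only [w, h.M_smul hA hcls]
  congr 1
  rw [smul_finset_def, sum_image (fun x _ y _ e => MulAction.injective g e)]
  exact sum_congr rfl fun x _ => h.M_smul hA hcls g x z

theorem star_smul (g : G) (b : V) (c : Finset V) : g • h.star b c = h.star (g • b) (g • c) := by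
  ext z
  rw [Finset.mem_smul_finset]
  constructor
  · rintro ⟨y, hy, rfl⟩
    rw [mem_star, h.w_smul hA hcls]
    exact h.mem_star.1 hy
  · intro hz
    refine ⟨g⁻¹ • z, ?_, smul_inv_smul g z⟩
    rw [mem_star, ← h.w_smul hA hcls g, smul_inv_smul]
    exact h.mem_star.1 hz

theorem point_smul (g : G) {s : Finset V} (hs : h.IsPoint s) : h.IsPoint (g • s) := by
  obtain ⟨b, c, hc, rfl⟩ := hs
  exact ⟨g • b, g • c, hcls g b c hc, h.star_smul hA hcls g b c⟩

/-- The action on the points. -/
noncomputable def toPerm : G →* Equiv.Perm h.Ω where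
  toFun g :=
    { toFun := fun p => ⟨g • p.1, h.point_smul hA hcls g p.2⟩
      invFun := fun p => ⟨g⁻¹ • p.1, h.point_smul hA hcls g⁻¹ p.2⟩
      left_inv := fun p => Subtype.ext (inv_smul_smul g p.1)
      right_inv := fun p => Subtype.ext (smul_inv_smul g p.1) }
  map_one' := Equiv.ext fun p => Subtype.ext (one_smul G p.1)
  map_mul' g g' := Equiv.ext fun p => Subtype.ext (mul_smul g g' p.1)

theorem toPerm_blk (g : G) (z : V) : h.toPerm hA hcls g • h.blk z = h.blk (g • z) := by
  ext p
  rw [Finset.mem_smul_finset, mem_blk]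
  constructor
  · rintro ⟨q, hq, rfl⟩
    exact Finset.smul_mem_smul_finset (h.mem_blk.1 hq)
  · intro hp
    refine ⟨⟨g⁻¹ • p.1, h.point_smul hA hcls g⁻¹ p.2⟩, h.mem_blk.2 ?_, ?_⟩
    · simpa using Finset.smul_mem_smul_finset (a := g⁻¹) hp
    · exact Subtype.ext (smul_inv_smul g p.1)

theorem toPerm_injective [FaithfulSMul G V] : Function.Injective (h.toPerm hA hcls) := by
  intro g g' e
  refine eq_of_smul_eq_smul fun z : V => h.blk_injective ?_
  rw [← h.toPerm_blk hA hcls, ← h.toPerm_blk hA hcls, e]

/-- **Recognition.** -/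
theorem iso_M23 [Finite G] [FaithfulSMul G V] (hG : Nat.card G = 10200960) :
    Cfsg.Spor.IsoM23 G := by
  classical
  obtain ⟨e, he0, he⟩ := CfsgLib.Golay.steiner23_iso h.card_Ω h.steiner
  set ρ := h.toPerm hA hcls
  have hpres : ∀ (g : G) (w : Finset h.Ω), w ∈ h.blocks → ρ g • w ∈ h.blocks := by
    rintro g _ ⟨z, rfl⟩
    exact ⟨g • z, (h.toPerm_blk hA hcls g z).symm⟩
  have hmem : ∀ g : G, e.permCongr (ρ g).optionCongr ∈ Cfsg.M24 := by
    intro g
    refine CfsgLib.Golay.mem_M24_of_octads_through fun o ho hp => ?_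
    obtain ⟨u, rfl⟩ : ∃ u : Finset (Option h.Ω), u.image e = o :=
      ⟨o.image e.symm, by simp [Finset.image_image]⟩
    have hn : none ∈ u := by
      rw [← he0] at hp
      simpa using hp
    have hu : Finset.insertNone (Finset.eraseNone u) = u := by
      rw [Finset.insertNone_eraseNone, Finset.insert_eq_of_mem hn]
    rw [← hu] at ho ⊢
    have h1 : e.permCongr (ρ g).optionCongr • (Finset.insertNone (Finset.eraseNone u)).image e =
        (Finset.insertNone (ρ g • Finset.eraseNone u)).image e := by
      have hh : Finset.insertNone (ρ g • Finset.eraseNone u) =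
          (Finset.insertNone (Finset.eraseNone u)).image (ρ g).optionCongr := by
        ext a
        rcases a with _ | a
        · simp
        · simp [Finset.mem_smul_finset]
      rw [Finset.smul_finset_def, hh, Finset.image_image, Finset.image_image]
      refine Finset.image_congr fun a _ => ?_
      simp [Equiv.permCongr_apply]
    rw [h1, he]
    exact hpres g _ ((he _).1 ho)
  let φ : G →* ↥(MulAction.stabilizer ↥Cfsg.M24 (CfsgLib.Golay.pt 23)) :=
    { toFun := fun g => ⟨⟨e.permCongr (ρ g).optionCongr, hmem g⟩, by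
        show e.permCongr (ρ g).optionCongr (CfsgLib.Golay.pt 23) = CfsgLib.Golay.pt 23
        rw [← he0]; simp [Equiv.permCongr_apply]⟩
      map_one' := by
        apply Subtype.ext; apply Subtype.ext; apply Equiv.ext; intro p
        obtain ⟨a, rfl⟩ := e.surjective p
        rcases a with _ | a <;> simp [Equiv.permCongr_apply]
      map_mul' := fun g k => by
        apply Subtype.ext; apply Subtype.ext; apply Equiv.ext; intro p
        obtain ⟨a, rfl⟩ := e.surjective p
        rcases a with _ | a <;> simp [Equiv.permCongr_apply, map_mul] }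
  obtain ⟨χ⟩ := CfsgLib.Golay.stab1_equiv (CfsgLib.Golay.pt 23)
  let ψ : G →* ↥Cfsg.Spor.M23 :=
    ((MulEquiv.subgroupCongr CfsgLib.Golay.sporM23_eq).symm.toMonoidHom.comp χ.toMonoidHom).comp φ
  have hφ : Function.Injective φ := by
    intro g k e'
    refine h.toPerm_injective hA hcls (Equiv.ext fun x => ?_)
    have h' : e.permCongr (ρ g).optionCongr = e.permCongr (ρ k).optionCongr :=
      congrArg (fun s : ↥(MulAction.stabilizer ↥Cfsg.M24 (CfsgLib.Golay.pt 23)) => s.1.1) e'
    have := congrArg (fun p : Equiv.Perm Cfsg.GolayPt => p (e (some x))) h'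
    simpa [Equiv.permCongr_apply] using this
  have hψ : Function.Injective ψ :=
    (((MulEquiv.subgroupCongr CfsgLib.Golay.sporM23_eq).symm.injective).comp χ.injective).comp hφ
  exact ⟨MulEquiv.ofBijective ψ ((Nat.bijective_iff_injective_and_card ψ).2
    ⟨hψ, hG.trans CfsgLib.Golay.card_sporM23.symm⟩)⟩

end Group

end Heptads

end CfsgLib.ClassK.M23Nse
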