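import Cfsg.Agent.Lib.ClassK.M23Nse.Geom.Far
import Cfsg.Agent.Lib.ClassK.M23Nse.Geom.Design

/-!
A simple group with the local data at an elementary abelian subgroup of order sixteen is `M₂₃`.
-/

set_option autoImplicit false
set_option linter.unusedSectionVars false

namespace CfsgLib.ClassK.M23Nse

open Subgroup
open scoped Pointwise

universe u

variable {G : Type u} [Group G] [Finite G]

namespace EData

variable (d : EData G)

theorem smul_orb_Ec (g : G) (q x : G ⧸ d.H) :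
    g • orb (d.Ec q) x = orb (d.Ec (g • q)) (g • x) := by
  ext z
  constructor
  · rintro ⟨y, ⟨e, he, rfl⟩, rfl⟩
    refine ⟨g * e * g⁻¹, (d.mem_Ec_smul g q).2 (by simpa [mul_assoc] using he), ?_⟩
    show (g * e * g⁻¹) • g • x = g • e • x
    rw [mul_smul, inv_smul_smul, mul_smul]
  · rintro ⟨e, he, rfl⟩
    refine ⟨(g⁻¹ * e * g) • x, ⟨_, (d.mem_Ec_smul g q).1 he, rfl⟩, ?_⟩
    show g • (g⁻¹ * e * g) • x = e • g • x
    rw [mul_smul, mul_smul, smul_inv_smul]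

theorem orb_Ec_a (x : G ⧸ d.H) : orb (d.Ec d.a) x = d.cl x := by rw [d.Ec_a]

open scoped Classical

variable [Fintype (G ⧸ d.H)]

/-- The classes at a vertex. -/
noncomputable def clsAt (b : G ⧸ d.H) : Finset (Finset (G ⧸ d.H)) :=
  (d.nb b).toFinset.image fun x => (orb (d.Ec b) x).toFinset

theorem mem_clsAt {b : G ⧸ d.H} {c : Finset (G ⧸ d.H)} :
    c ∈ d.clsAt b ↔ ∃ x ∈ d.nb b, (c : Set (G ⧸ d.H)) = orb (d.Ec b) x := by
  simp only [clsAt, Finset.mem_image, Set.mem_toFinset]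
  refine exists_congr fun x => and_congr_right fun _ => ⟨fun e => ?_, fun e => ?_⟩
  · rw [← e, Set.coe_toFinset]
  · rw [← Finset.coe_inj, e, Set.coe_toFinset]

theorem clsAt_base (g : G) {c : Finset (G ⧸ d.H)} (hc : c ∈ d.clsAt (g • d.a)) :
    ∃ c₀ ∈ d.classes, (c : Set (G ⧸ d.H)) = g • c₀ := by
  obtain ⟨x, hx, e⟩ := d.mem_clsAt.1 hc
  rw [← d.smul_nb, d.nb_a, Set.mem_smul_set_iff_inv_smul_mem] at hx
  refine ⟨d.cl (g⁻¹ • x), d.cl_mem_classes hx, ?_⟩
  rw [e, ← d.orb_Ec_a, d.smul_orb_Ec, smul_inv_smul]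

theorem card_filter_coe (c : Finset (G ⧸ d.H)) (x : G ⧸ d.H) [DecidablePred (d.Adj x)] :
    (c.filter (d.Adj x)).card = ((c : Set (G ⧸ d.H)) ∩ d.nb x).ncard := by
  rw [← Set.ncard_coe_finset]
  congr 1
  ext z
  simp [nb]

theorem smul_mem_nb {g : G} {x : G ⧸ d.H} (hx : x ∈ d.N1) : d.Adj (g • d.a) (g • x) := d.adj_smul g hx

theorem far_base {g : G} {y : G ⧸ d.H} (hne : g • y ≠ g • d.a) (h : ¬ d.Adj (g • d.a) (g • y)) :
    y ∈ d.N2 :=
  ⟨fun e => hne (e ▸ rfl), fun e => h (d.smul_mem_nb e)⟩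

/-- The heptad structure. -/
noncomputable def heptads : Heptads (G ⧸ d.H) where
  A := d.Adj
  cls := d.clsAt
  symm _ _ h := d.adj_symm h
  irrefl := d.adj_irrefl
  card_V := by rw [← Nat.card_eq_fintype_card, d.card_space]
  cls_card b := by
    obtain ⟨g, rfl⟩ := d.exists_smul_a b
    rw [← d.card_classes]
    refine Finset.card_bij (fun c _ => g⁻¹ • (c : Set (G ⧸ d.H))) (fun c hc => ?_)
      (fun c _ c' _ e => Finset.coe_inj.1 (smul_left_cancel g⁻¹ e)) (fun c₀ hc₀ => ?_)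
    · obtain ⟨c₀, hc₀, e⟩ := d.clsAt_base g hc
      rwa [e, inv_smul_smul]
    · obtain ⟨q, hq, rfl⟩ := d.mem_classes.1 hc₀
      refine ⟨(g • d.cl q).toFinset, d.mem_clsAt.2 ⟨g • q, d.smul_mem_nb hq, ?_⟩, ?_⟩
      · rw [Set.coe_toFinset, ← d.orb_Ec_a, d.smul_orb_Ec]
      · rw [Set.coe_toFinset, inv_smul_smul]
  size b c hc := by
    obtain ⟨g, rfl⟩ := d.exists_smul_a b
    obtain ⟨c₀, hc₀, e⟩ := d.clsAt_base g hc
    rw [← Set.ncard_coe_finset, e, Set.ncard_smul_set, d.ncard_class hc₀]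
  cover b x := by
    constructor
    · intro h
      refine ⟨(orb (d.Ec b) x).toFinset, d.mem_clsAt.2 ⟨x, h, Set.coe_toFinset _⟩, ?_⟩
      rw [Set.mem_toFinset]
      exact self_mem_orb _ _
    · rintro ⟨c, hc, hx⟩
      obtain ⟨g, rfl⟩ := d.exists_smul_a b
      obtain ⟨c₀, hc₀, e⟩ := d.clsAt_base g hc
      rw [← Finset.mem_coe, e, Set.mem_smul_set_iff_inv_smul_mem] at hx
      have := d.smul_mem_nb (g := g) (d.classes_subset hc₀ hx)
      rwa [smul_inv_smul] at this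
  disj b c hc c' hc' x hx hx' := by
    obtain ⟨y, -, e⟩ := d.mem_clsAt.1 hc
    obtain ⟨y', -, e'⟩ := d.mem_clsAt.1 hc'
    rw [← Finset.mem_coe, e] at hx
    rw [← Finset.mem_coe, e'] at hx'
    rw [← Finset.coe_inj, e, e', ← orb_eq hx, ← orb_eq hx']
  coclique b c hc x hx y hy := by
    obtain ⟨g, rfl⟩ := d.exists_smul_a b
    obtain ⟨c₀, hc₀, e⟩ := d.clsAt_base g hc
    rw [← Finset.mem_coe, e, Set.mem_smul_set_iff_inv_smul_mem] at hx hy
    intro h
    rw [d.eq_cl hc₀ hx] at hy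
    exact d.class_coclique (d.classes_subset hc₀ hx) hy (d.adj_smul g⁻¹ h)
  cross b c hc c' hc' hne x hx := by
    obtain ⟨g, rfl⟩ := d.exists_smul_a b
    obtain ⟨c₀, hc₀, e⟩ := d.clsAt_base g hc
    obtain ⟨c₁, hc₁, e'⟩ := d.clsAt_base g hc'
    rw [← Finset.mem_coe, e, Set.mem_smul_set_iff_inv_smul_mem] at hx
    obtain ⟨p, hp, rfl⟩ := d.mem_classes.1 hc₁
    obtain ⟨r, hr⟩ := d.exists_N2
    rw [d.card_filter_coe, e', ← smul_inv_smul g x, d.ncard_smul_inter]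
    refine (d.params (d.classes_subset hc₀ hx) hr).2.1 p hp fun hm => hne ?_
    rw [← Finset.coe_inj, e, e', d.eq_cl hc₀ hx, ← d.eq_cl (d.cl_mem_classes (d.classes_subset hc₀ hx)) hm]
  mu x y hne h := by
    obtain ⟨q, hq⟩ : d.N1.Nonempty := Set.nonempty_of_ncard_ne_zero (by rw [d.ncard_N1]; norm_num)
    obtain ⟨r, hr⟩ := d.exists_N2
    rw [card_filter_eq_ncard, show {z | d.Adj x z ∧ d.Adj y z} = d.nb x ∩ d.nb y from rfl,
      d.common_of_not_adj hne h hr.1.symm hr.2]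
    exact (d.params hq hr).2.2
  far b y hne h c hc := by
    obtain ⟨g, rfl⟩ := d.exists_smul_a b
    obtain ⟨c₀, hc₀, e⟩ := d.clsAt_base g hc
    obtain ⟨Y, rfl⟩ : ∃ Y, g • Y = y := ⟨_, smul_inv_smul g y⟩
    rw [d.card_filter_coe, e, d.ncard_smul_inter]
    exact (d.far_values (d.far_base hne h)).1 c₀ hc₀
  link b c hc x hx c' hc' hb y hy hne := by
    obtain ⟨g, rfl⟩ := d.exists_smul_a b
    obtain ⟨c₀, hc₀, e⟩ := d.clsAt_base g hc
    obtain ⟨X, rfl⟩ : ∃ X, g • X = x := ⟨_, smul_inv_smul g x⟩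
    obtain ⟨Y, rfl⟩ : ∃ Y, g • Y = y := ⟨_, smul_inv_smul g y⟩
    rw [← Finset.mem_coe, e, Set.smul_mem_smul_set_iff] at hx
    obtain ⟨z, -, e'⟩ := d.mem_clsAt.1 hc'
    rw [← Finset.mem_coe, e'] at hb hy
    rw [← orb_eq hb, ← d.smul_orb_Ec, Set.smul_mem_smul_set_iff] at hy
    rw [d.card_filter_coe, e, d.ncard_smul_inter, d.eq_cl hc₀ hx]
    exact d.link (d.classes_subset hc₀ hx) hy (fun e'' => hne (by rw [e'']))

theorem heptads_A (g : G) (x y : G ⧸ d.H) (h : d.heptads.A x y) : d.heptads.A (g • x) (g • y) :=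
  d.adj_smul g h

theorem heptads_cls (g : G) (b : G ⧸ d.H) (c : Finset (G ⧸ d.H)) (hc : c ∈ d.heptads.cls b) :
    g • c ∈ d.heptads.cls (g • b) := by
  obtain ⟨x, hx, e⟩ := d.mem_clsAt.1 hc
  refine d.mem_clsAt.2 ⟨g • x, d.adj_smul g hx, ?_⟩
  rw [Finset.coe_smul_finset, e, d.smul_orb_Ec]

end EData

/-- **Recognition from the local data.** -/
theorem iso_of_eData (d : EData G) [IsSimpleGroup G] : Cfsg.Spor.IsoM23 G := by
  haveI := Fintype.ofFinite (G ⧸ d.H)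
  haveI : FaithfulSMul G (G ⧸ d.H) := by
    refine ⟨fun {g g'} hgg => ?_⟩
    set ρ := MulAction.toPermHom G (G ⧸ d.H)
    rcases (inferInstance : ρ.ker.Normal).eq_bot_or_eq_top with h | h
    · exact (MonoidHom.ker_eq_bot_iff ρ).1 h (Equiv.ext hgg)
    · exfalso
      have htop : d.H = ⊤ := by
        rw [eq_top_iff]
        intro k _
        have hk : k ∈ ρ.ker := h ▸ mem_top k
        exact d.smul_a_iff.1 (Equiv.ext_iff.1 (MonoidHom.mem_ker.1 hk) d.a)
      have := d.card_H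
      rw [htop, card_top, d.card_G] at this
      norm_num at this
  exact d.heptads.iso_M23 d.heptads_A (fun g b c hc => by convert d.heptads_cls g b c hc) d.card_G

end CfsgLib.ClassK.M23Nse
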