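import Cfsg.Agent.Lib.ClassK.M23Nse.Geom.Kernel

/-!
A far point has four or twelve neighbours in each class, and four in the class that links it to a
common neighbour.
-/

set_option autoImplicit false
set_option linter.unusedSectionVars false

namespace CfsgLib.ClassK.M23Nse

open Subgroup
open scoped Pointwise

universe u

variable {G : Type u} [Group G] [Finite G]

namespace EData

variable (d : EData G)

theorem exists_N2 : ∃ r, r ∈ d.N2 :=
  Set.nonempty_of_ncard_ne_zero (by rw [d.ncard_N2]; norm_num)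

/-- A class is a coclique. -/
theorem class_coclique {q p : G ⧸ d.H} (hq : q ∈ d.N1) (hp : p ∈ d.cl q) : ¬ d.Adj q p := fun h => by
  obtain ⟨r, hr⟩ := d.exists_N2
  exact ((d.params hq hr).1.le ⟨hp, h⟩ : p ∈ (∅ : Set (G ⧸ d.H)))

theorem smul_class_E {e : G} (he : e ∈ d.E) {c : Set (G ⧸ d.H)} (hc : c ∈ d.classes) : e • c = c := by
  obtain ⟨q, -, rfl⟩ := d.mem_classes.1 hc
  rw [d.smul_cl (d.E_le he)]
  exact orb_eq ⟨e, he, rfl⟩

theorem ncard_smul_inter (h : G) (c : Set (G ⧸ d.H)) (Y : G ⧸ d.H) :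
    (h • c ∩ d.nb (h • Y)).ncard = (c ∩ d.nb Y).ncard := by
  rw [← d.smul_nb, ← Set.smul_set_inter, Set.ncard_smul_set]

theorem four_dvd {Y : G ⧸ d.H} (hY : Y ∈ d.N2) (A : Set (G ⧸ d.H)) (hA : A ⊆ d.N1)
    (hinv : ∀ u ∈ d.U d.a Y, ∀ z ∈ A, u • z ∈ A) : 4 ∣ A.ncard := by
  refine dvd_ncard_of_orbits (d.U d.a Y) A hinv fun z hz => ?_
  have h := card_orbit_mul (d.U d.a Y) z
  rw [show d.U d.a Y ⊓ MulAction.stabilizer G z = ⊥ from (eq_bot_iff_forall _).2 fun u hu =>
      d.free_cl (hA hz) (d.Ec_a ▸ (mem_inf.1 (mem_inf.1 hu).1).1) (mem_inf.1 hu).2,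
    card_bot, mul_one, d.card_U hY.1.symm (fun e => hY.2 ⟨hY.1.symm, e⟩)] at h
  exact h

theorem four_dvd_class {Y : G ⧸ d.H} (hY : Y ∈ d.N2) {c : Set (G ⧸ d.H)} (hc : c ∈ d.classes) :
    4 ∣ (c ∩ d.nb Y).ncard := by
  refine d.four_dvd hY _ (fun z hz => d.classes_subset hc hz.1) fun u hu z hz => ?_
  have h := Set.smul_mem_smul_set (a := u) hz
  rwa [Set.smul_set_inter, d.smul_nb, d.smul_class_E (d.Ec_a ▸ (mem_inf.1 hu).1) hc,
    show u • Y = Y from (mem_inf.1 hu).2] at h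

/-- The squares of the numbers of neighbours in a class, summed over the far points. -/
theorem sum_sq {c : Set (G ⧸ d.H)} (hc : c ∈ d.classes) [Fintype (G ⧸ d.H)] [Fintype d.N2] :
    ∑ z ∈ d.N2.toFinset, (c ∩ d.nb z).ncard ^ 2 = 12480 := by
  classical
  obtain ⟨q, hq, rfl⟩ := d.mem_classes.1 hc
  obtain ⟨r, hr⟩ := d.exists_N2
  set C := (d.cl q).toFinset with hC
  have hCc : C.card = 16 := by rw [← Set.ncard_eq_toFinset_card', d.ncard_cl hq]
  have hj : ∀ z, (d.cl q ∩ d.nb z).ncard = (C.filter (d.Adj z)).card := fun z => by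
    rw [← Set.ncard_coe_finset]; congr 1; ext y; simp [hC, nb]
  have hpair : ∑ z : G ⧸ d.H, (d.cl q ∩ d.nb z).ncard ^ 2 = 16192 := by
    have h1 : ∀ z : G ⧸ d.H, (d.cl q ∩ d.nb z).ncard ^ 2 =
        ∑ x ∈ C, ∑ x' ∈ C, (if d.Adj x z ∧ d.Adj x' z then 1 else 0) := fun z => by
      rw [hj, Finset.card_filter, pow_two, Finset.sum_mul_sum]
      refine Finset.sum_congr rfl fun x _ => Finset.sum_congr rfl fun x' _ => ?_
      have e : ∀ x, d.Adj x z ↔ d.Adj z x := fun x => ⟨d.adj_symm, d.adj_symm⟩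
      by_cases h : d.Adj z x <;> by_cases h' : d.Adj z x' <;> simp [e, h, h']
    rw [Finset.sum_congr rfl (fun z _ => h1 z), Finset.sum_comm,
      Finset.sum_congr rfl (fun x hx => ?_ : ∀ x ∈ C, _ = 1012), Finset.sum_const, hCc, smul_eq_mul]
    rw [hC, Set.mem_toFinset] at hx
    rw [Finset.sum_comm, ← Finset.add_sum_erase _ _ (show x ∈ C by rw [hC, Set.mem_toFinset]; exact hx),
      Finset.sum_congr rfl (fun x' hx' => ?_ : ∀ x' ∈ C.erase x, _ = 60), Finset.sum_const,
      Finset.card_erase_of_mem (by rw [hC, Set.mem_toFinset]; exact hx), hCc, smul_eq_mul,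
      ← Finset.card_filter, card_filter_eq_ncard]
    · simp only [and_self]
      rw [show {z | d.Adj x z} = d.nb x from rfl, d.ncard_nb]
    · obtain ⟨hne, hx'⟩ := Finset.mem_erase.1 hx'
      rw [hC, Set.mem_toFinset] at hx'
      rw [← Finset.card_filter, card_filter_eq_ncard,
        show {z | d.Adj x z ∧ d.Adj x' z} = d.nb x ∩ d.nb x' from rfl,
        d.common_of_not_adj hne.symm (d.class_coclique (d.cl_subset hq hx)
          (by rw [cl, orb_eq hx]; exact hx')) hr.1.symm hr.2]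
      exact (d.params hq hr).2.2
  have hsplit : (Finset.univ : Finset (G ⧸ d.H)) = insert d.a (d.N1.toFinset ∪ d.N2.toFinset) := by
    ext z
    simp only [Finset.mem_univ, Finset.mem_insert, Finset.mem_union, Set.mem_toFinset, true_iff]
    by_cases h : z = d.a
    · exact Or.inl h
    by_cases h' : d.Adj d.a z
    · exact Or.inr (Or.inl h')
    · exact Or.inr (Or.inr ⟨h, h'⟩)
  rw [hsplit, Finset.sum_insert, Finset.sum_union] at hpair
  · have ha : (d.cl q ∩ d.nb d.a).ncard = 16 := by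
      rw [d.nb_a, Set.inter_eq_left.2 (d.cl_subset hq), d.ncard_cl hq]
    have hN1 : ∑ z ∈ d.N1.toFinset, (d.cl q ∩ d.nb z).ncard ^ 2 = 3456 := by
      rw [← Finset.sum_filter_add_sum_filter_not d.N1.toFinset (fun z => z ∈ d.cl q),
        Finset.sum_congr rfl (fun z hz => ?_ :
          ∀ z ∈ d.N1.toFinset.filter (fun z => z ∈ d.cl q), _ = 0),
        Finset.sum_congr rfl (fun z hz => ?_ :
          ∀ z ∈ d.N1.toFinset.filter (fun z => ¬ z ∈ d.cl q), _ = 36), Finset.sum_const_zero,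
        zero_add, Finset.sum_const, smul_eq_mul]
      · rw [show (d.N1.toFinset.filter fun z => ¬ z ∈ d.cl q) = d.N1.toFinset \ C by
            ext z; simp [hC],
          Finset.card_sdiff_of_subset (by rw [hC]; exact Set.toFinset_mono (d.cl_subset hq)), hCc,
          ← Set.ncard_eq_toFinset_card', d.ncard_N1]
      · obtain ⟨hz1, hzc⟩ := Finset.mem_filter.1 hz
        rw [Set.mem_toFinset] at hz1
        rw [(d.params hz1 hr).2.1 q hq (fun h => hzc (by rw [cl, orb_eq h]; exact self_mem_orb _ _))]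
        norm_num
      · obtain ⟨hz1, hzc⟩ := Finset.mem_filter.1 hz
        rw [Set.mem_toFinset] at hz1
        rw [show d.cl q ∩ d.nb z = ∅ from Set.eq_empty_of_forall_notMem fun y hy =>
          d.class_coclique hz1 (by rw [cl, orb_eq hzc]; exact hy.1) hy.2, Set.ncard_empty]
        norm_num
    rw [ha, hN1] at hpair
    norm_num at hpair
    omega
  · exact Finset.disjoint_left.2 fun z hz hz' => by
      rw [Set.mem_toFinset] at hz hz'
      exact hz'.2 hz
  · rw [Finset.mem_union, Set.mem_toFinset, Set.mem_toFinset]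
    exact fun h => h.elim (d.adj_irrefl _) (fun h => h.1 rfl)

theorem sum_sq_point {Y : G ⧸ d.H} (hY : Y ∈ d.N2) :
    ∑ c ∈ d.classes, (c ∩ d.nb Y).ncard ^ 2 = 624 := by
  classical
  haveI := Fintype.ofFinite (G ⧸ d.H)
  have hconst : ∀ z ∈ d.N2.toFinset, ∑ c ∈ d.classes, (c ∩ d.nb z).ncard ^ 2 =
      ∑ c ∈ d.classes, (c ∩ d.nb Y).ncard ^ 2 := by
    intro z hz
    obtain ⟨h, hh, rfl⟩ := d.trans_N2 hY (Set.mem_toFinset.1 hz)
    refine Finset.sum_nbij' (fun c => h⁻¹ • c) (fun c => h • c)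
      (fun c hc => d.smul_classes (inv_mem hh) hc) (fun c hc => d.smul_classes hh hc)
      (fun c _ => smul_inv_smul h c) (fun c _ => inv_smul_smul h c) (fun c _ => ?_)
    conv_lhs => rw [← smul_inv_smul h c, d.ncard_smul_inter]
  have h1 : ∑ z ∈ d.N2.toFinset, ∑ c ∈ d.classes, (c ∩ d.nb z).ncard ^ 2 = 87360 := by
    rw [Finset.sum_comm, Finset.sum_congr rfl (fun c hc => d.sum_sq hc), Finset.sum_const,
      d.card_classes, smul_eq_mul]
  rw [Finset.sum_congr rfl hconst, Finset.sum_const, ← Set.ncard_eq_toFinset_card', d.ncard_N2,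
    smul_eq_mul] at h1
  omega

/-- **Four or twelve.** -/
theorem far_values {Y : G ⧸ d.H} (hY : Y ∈ d.N2) :
    (∀ c ∈ d.classes, (c ∩ d.nb Y).ncard = 4 ∨ (c ∩ d.nb Y).ncard = 12) ∧
      (d.classes.filter fun c => (c ∩ d.nb Y).ncard = 4).card = 3 := by
  classical
  let f : Set (G ⧸ d.H) → Fin 5 := fun c => Fin.ofNat 5 ((c ∩ d.nb Y).ncard / 4)
  have hf : ∀ c ∈ d.classes, (c ∩ d.nb Y).ncard = 4 * (f c).val := by
    intro c hc
    have h4 := d.four_dvd_class hY hc
    have hle := Set.ncard_le_ncard (Set.inter_subset_left : c ∩ d.nb Y ⊆ c) (Set.toFinite _)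
    rw [d.ncard_class hc] at hle
    simp only [f, Fin.val_ofNat]
    omega
  have hsum : ∀ F : ℕ → ℕ, ∑ c ∈ d.classes, F (f c).val =
      (d.classes.filter fun c => f c = 0).card * F 0 + (d.classes.filter fun c => f c = 1).card * F 1 +
      (d.classes.filter fun c => f c = 2).card * F 2 + (d.classes.filter fun c => f c = 3).card * F 3 +
      (d.classes.filter fun c => f c = 4).card * F 4 := by
    intro F
    rw [← Finset.sum_fiberwise d.classes f, Fin.sum_univ_five]
    congr 1 <;> [congr 1; skip] <;> [congr 1; skip; skip] <;> [congr 1; skip; skip; skip]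
    all_goals
      rw [Finset.sum_congr rfl (fun c hc => by rw [(Finset.mem_filter.1 hc).2]), Finset.sum_const,
        smul_eq_mul]
      rfl
  have h0 := hsum fun _ => 1
  rw [Finset.sum_const, d.card_classes, smul_eq_mul, mul_one] at h0
  have h1 := hsum fun i => 4 * i
  have h60 : ∑ c ∈ d.classes, 4 * (f c).val = 60 := by
    obtain ⟨q, hq⟩ : d.N1.Nonempty := Set.nonempty_of_ncard_ne_zero (by rw [d.ncard_N1]; norm_num)
    rw [← (d.params hq hY).2.2, d.nb_a, ← d.sum_classes]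
    exact Finset.sum_congr rfl fun c hc => (hf c hc).symm
  have h2 := hsum fun i => (4 * i) ^ 2
  have h624 : ∑ c ∈ d.classes, (4 * (f c).val) ^ 2 = 624 := by
    rw [← d.sum_sq_point hY]
    exact Finset.sum_congr rfl fun c hc => by rw [hf c hc]
  rw [h60] at h1
  rw [h624] at h2
  have hp := d.perm_bound hY f fun s hs c hc => by
    show Fin.ofNat 5 ((s • c ∩ d.nb Y).ncard / 4) = _
    conv_lhs => rw [← (show s • Y = Y from hs.2), d.ncard_smul_inter]
  rw [Fin.prod_univ_five] at hp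
  generalize hn0 : (d.classes.filter fun c => f c = 0).card = n0 at *
  generalize hn1 : (d.classes.filter fun c => f c = 1).card = n1 at *
  generalize hn2 : (d.classes.filter fun c => f c = 2).card = n2 at *
  generalize hn3 : (d.classes.filter fun c => f c = 3).card = n3 at *
  generalize hn4 : (d.classes.filter fun c => f c = 4).card = n4 at *
  norm_num at h0 h1 h2
  have hcases : (n0 = 0 ∧ n1 = 3 ∧ n2 = 0 ∧ n3 = 4 ∧ n4 = 0) ∨
      (n0 = 1 ∧ n1 = 0 ∧ n2 = 3 ∧ n3 = 3 ∧ n4 = 0) ∨ (n0 = 0 ∧ n1 = 2 ∧ n2 = 3 ∧ n3 = 1 ∧ n4 = 1) := by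
    have : n0 ≤ 2 := by omega
    have : n4 ≤ 2 := by omega
    interval_cases n0 <;> interval_cases n4 <;> omega
  rcases hcases with ⟨rfl, rfl, rfl, rfl, rfl⟩ | ⟨rfl, rfl, rfl, rfl, rfl⟩ | ⟨rfl, rfl, rfl, rfl, rfl⟩
  · have hne : ∀ i : Fin 5, (d.classes.filter fun c => f c = i).card = 0 → ∀ c ∈ d.classes, f c ≠ i :=
      fun i h c hc e => Finset.notMem_empty c
        (Finset.card_eq_zero.1 h ▸ Finset.mem_filter.2 ⟨hc, e⟩)
    refine ⟨fun c hc => ?_, ?_⟩
    · have := hne 0 hn0 c hc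
      have := hne 2 hn2 c hc
      have := hne 4 hn4 c hc
      have := hf c hc
      rw [ne_eq, Fin.ext_iff] at *
      have := (f c).isLt
      omega
    · rw [← hn1]
      refine congrArg Finset.card (Finset.filter_congr fun c hc => ?_)
      have := hf c hc
      rw [Fin.ext_iff]
      omega
  all_goals norm_num [Nat.factorial] at hp

/-- **The linking class.** -/
theorem link {X Y : G ⧸ d.H} (hX : X ∈ d.N1) (hY : Y ∈ orb (d.Ec X) d.a) (hne : Y ≠ d.a) :
    (d.cl X ∩ d.nb Y).ncard = 4 := by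
  classical
  obtain ⟨g, hg⟩ := d.exists_smul_a X
  subst hg
  set q := g⁻¹ • d.a with hq'
  have hga : g • q = d.a := smul_inv_smul g d.a
  have hq : q ∈ d.N1 := d.adj_symm (by rw [← d.adj_smul_iff g, hga]; exact hX)
  have hback : ∀ {Z : G ⧸ d.H}, Z ∈ orb (d.Ec (g • d.a)) d.a → g⁻¹ • Z ∈ d.cl q := by
    rintro _ ⟨e, he, rfl⟩
    refine ⟨g⁻¹ * e * g, (d.mem_Ec g).1 he, ?_⟩
    rw [← mul_smul, ← mul_smul, mul_inv_cancel_right]
  have hXY : d.Adj (g • d.a) Y := by
    obtain ⟨e, he, rfl⟩ := hY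
    have := d.adj_smul e (d.adj_symm hX)
    rwa [show e • (g • d.a) = g • d.a from d.Ec_le_stab _ he] at this
  have hYN : Y ∈ d.N2 := ⟨hne, fun h => d.class_coclique hq (hback hY)
    (by rw [← d.adj_smul_iff g, hga, smul_inv_smul]; exact h)⟩
  have hcX : d.cl (g • d.a) ∈ d.classes := d.cl_mem_classes hX
  refine ((d.far_values hYN).1 _ hcX).resolve_right fun h12 => ?_
  -- the orbits of the two pair stabilisers
  have horbY : orb (d.Stab2 (g • d.a)) Y = orb (d.Ec (g • d.a)) d.a \ {d.a} := by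
    ext Z
    constructor
    · rintro ⟨s, hs, rfl⟩
      have hsa := d.smul_a_iff.2 hs.1
      refine ⟨?_, fun e => hne (smul_left_cancel s ((Set.mem_singleton_iff.1 e).trans hsa.symm))⟩
      obtain ⟨e, he, rfl⟩ := hY
      refine ⟨s * e * s⁻¹, d.stab_normalizes hs.2 he, ?_⟩
      rw [mul_smul, mul_smul, inv_smul_eq_iff.2 hsa.symm]
    · rintro ⟨hZ, hZa⟩
      have hne' : ∀ {W : G ⧸ d.H}, W ≠ d.a → g⁻¹ • W ≠ q := fun h e => h (smul_left_cancel _ e)
      obtain ⟨s, hs, e⟩ := d.trans_cl hq (hback hY) (hne' hne) (hback hZ) (hne' hZa)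
      refine ⟨g * s * g⁻¹, mem_inf.2 ⟨d.smul_a_iff.1 ?_, ?_⟩, ?_⟩
      · rw [mul_smul, mul_smul, ← hq', show s • q = q from hs.2, hga]
      · show (g * s * g⁻¹) • g • d.a = g • d.a
        rw [mul_smul, mul_smul, inv_smul_smul, d.smul_a_iff.2 hs.1]
      · rw [mul_smul, mul_smul, e, smul_inv_smul]
  have h24 := card_orbit_mul (d.Stab2 (g • d.a)) Y
  rw [show {y | ∃ s ∈ d.Stab2 (g • d.a), s • Y = y} = orb (d.Stab2 (g • d.a)) Y from rfl, horbY,
    Set.ncard_sdiff_singleton_of_mem (self_mem_orb _ _), d.orb_adj (d.adj_symm hX),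
    d.card_Stab2_near hX] at h24
  obtain ⟨O, hO⟩ : ∃ O, O = orb (d.Stab2 Y) (g • d.a) := ⟨_, rfl⟩
  have hOc : O.ncard = 12 := by
    have h := card_orbit_mul (d.Stab2 Y) (g • d.a)
    rw [show {y | ∃ s ∈ d.Stab2 Y, s • (g • d.a) = y} = O from hO.symm,
      show d.Stab2 Y ⊓ MulAction.stabilizer G (g • d.a) =
        d.Stab2 (g • d.a) ⊓ MulAction.stabilizer G Y by
          rw [Stab2, Stab2, inf_assoc, inf_assoc, inf_comm (MulAction.stabilizer G Y)],
      d.card_Stab2_far hYN] at h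
    nlinarith
  have hON : O ⊆ d.N1 := by
    rw [hO]; rintro _ ⟨s, hs, rfl⟩; exact d.H_N1 hs.1 hX
  have hOs : ∀ s ∈ d.Stab2 Y, s • O = O := fun s hs => by
    rw [hO, smul_orb (le_normalizer hs), orb_eq ⟨s, hs, rfl⟩]
  have hmet : ∀ c ∈ d.classes, (c ∩ O).Nonempty → (c ∩ d.nb Y).ncard = 12 := by
    rintro c hc ⟨z, hzc, hzO⟩
    rw [hO] at hzO
    obtain ⟨s, hs, rfl⟩ := hzO
    rw [d.eq_cl hc hzc, ← d.smul_cl hs.1, ← (show s • Y = Y from hs.2), d.ncard_smul_inter, h12]
  set M := d.classes.filter fun c => (c ∩ O).Nonempty with hM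
  have hM3 : M.card ≤ 3 := by
    have h := d.sum_classes O
    rw [Set.inter_eq_right.2 hON, hOc] at h
    have h4 : ∀ c ∈ M, 4 ≤ (c ∩ O).ncard := by
      intro c hc
      obtain ⟨hc, hne0⟩ := Finset.mem_filter.1 hc
      refine Nat.le_of_dvd ((Set.ncard_pos (Set.toFinite _)).2 hne0)
        (d.four_dvd hYN _ (fun z hz => hON hz.2) fun u hu z hz => ?_)
      have hu' := mem_inf.1 hu
      have h := Set.smul_mem_smul_set (a := u) hz
      rwa [Set.smul_set_inter, d.smul_class_E (d.Ec_a ▸ hu'.1) hc,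
        hOs u (mem_inf.2 ⟨d.E_le (d.Ec_a ▸ hu'.1), hu'.2⟩)] at h
    have := (Finset.card_nsmul_le_sum M _ 4 h4).trans
      (Finset.sum_le_sum_of_subset (Finset.filter_subset _ d.classes))
    rw [h, smul_eq_mul] at this
    omega
  have hM1 : 1 ≤ M.card := Finset.card_pos.2 ⟨_, Finset.mem_filter.2
    ⟨hcX, g • d.a, self_mem_orb _ _, hO ▸ self_mem_orb _ _⟩⟩
  let f : Set (G ⧸ d.H) → Fin 3 := fun c =>
    if (c ∩ d.nb Y).ncard = 4 then 0 else if (c ∩ O).Nonempty then 1 else 2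
  have hp := d.perm_bound hYN f fun s hs c _ => by
    have e1 : (s • c ∩ d.nb Y).ncard = (c ∩ d.nb Y).ncard := by
      conv_lhs => rw [← (show s • Y = Y from hs.2), d.ncard_smul_inter]
    have e2 : (s • c ∩ O).Nonempty ↔ (c ∩ O).Nonempty := by
      conv_lhs => rw [← hOs s hs, ← Set.smul_set_inter, Set.smul_set_nonempty]
    simp only [f, e1, e2]
  rw [Fin.prod_univ_three] at hp
  have hn0 : (d.classes.filter fun c => f c = 0).card = 3 := by
    refine Eq.trans (congrArg Finset.card (Finset.filter_congr fun c _ => ?_)) (d.far_values hYN).2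
    simp only [f]; split_ifs with h h' <;> simp [h]
  have hn1 : (d.classes.filter fun c => f c = 1).card = M.card := by
    refine congrArg Finset.card (Finset.filter_congr fun c hc => ?_)
    simp only [f]; split_ifs with h h'
    · simp only [Fin.ext_iff]
      exact iff_of_false (by norm_num) fun h' => by rw [hmet c hc h'] at h; norm_num at h
    · exact iff_of_true rfl h'
    · exact iff_of_false (by decide) h'
  have h7 := Finset.card_eq_sum_card_fiberwise (f := f) (s := d.classes) (t := Finset.univ)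
    (fun c _ => Finset.mem_univ _)
  rw [Fin.sum_univ_three, d.card_classes, hn0, hn1] at h7
  rw [hn0, hn1] at hp
  generalize (d.classes.filter fun c => f c = 2).card = n2 at *
  obtain rfl : n2 = 4 - M.card := by omega
  rcases (by omega : M.card = 1 ∨ M.card = 2 ∨ M.card = 3) with e | e | e <;>
    rw [e] at hp <;> norm_num [Nat.factorial] at hp

end EData

end CfsgLib.ClassK.M23Nse
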