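import Cfsg.Agent.Lib.ClassK.M23Nse.Geom.Params

/-!
The seven classes at the base point: only `E` fixes all of them, and the resulting bound on the
colourings of the classes that the stabiliser of a far point can preserve.
-/

set_option autoImplicit false
set_option linter.unusedSectionVars false

namespace CfsgLib.ClassK.M23Nse

open Subgroup
open scoped Pointwise Nat

universe u

variable {G : Type u} [Group G] [Finite G]

namespace EData

variable (d : EData G)

/-- The classes at the base point. -/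
noncomputable def classes : Finset (Set (G ⧸ d.H)) := (Set.toFinite (d.cl '' d.N1)).toFinset

theorem mem_classes {c : Set (G ⧸ d.H)} : c ∈ d.classes ↔ ∃ q ∈ d.N1, d.cl q = c := by
  simp [classes]

theorem cl_mem_classes {q : G ⧸ d.H} (hq : q ∈ d.N1) : d.cl q ∈ d.classes :=
  d.mem_classes.2 ⟨q, hq, rfl⟩

theorem classes_subset {c : Set (G ⧸ d.H)} (hc : c ∈ d.classes) : c ⊆ d.N1 := by
  obtain ⟨q, hq, rfl⟩ := d.mem_classes.1 hc
  exact d.cl_subset hq

theorem eq_cl {c : Set (G ⧸ d.H)} (hc : c ∈ d.classes) {q : G ⧸ d.H} (hq : q ∈ c) : c = d.cl q := by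
  obtain ⟨p, -, rfl⟩ := d.mem_classes.1 hc
  exact (orb_eq hq).symm

theorem smul_classes {h : G} (hh : h ∈ d.H) {c : Set (G ⧸ d.H)} (hc : c ∈ d.classes) :
    h • c ∈ d.classes := by
  obtain ⟨q, hq, rfl⟩ := d.mem_classes.1 hc
  rw [d.smul_cl hh]
  exact d.cl_mem_classes (d.H_N1 hh hq)

/-- Counting in the first suborbit by classes. -/
theorem sum_classes (S : Set (G ⧸ d.H)) :
    ∑ c ∈ d.classes, (c ∩ S).ncard = (d.N1 ∩ S).ncard := by
  classical
  haveI := Fintype.ofFinite (G ⧸ d.H)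
  have e : (d.N1 ∩ S).toFinset = d.classes.biUnion fun c => (c ∩ S).toFinset := by
    ext z
    simp only [Set.mem_toFinset, Finset.mem_biUnion, Set.mem_inter_iff]
    exact ⟨fun ⟨hz, hzS⟩ => ⟨_, d.cl_mem_classes hz, self_mem_orb _ _, hzS⟩,
      fun ⟨c, hc, hz, hzS⟩ => ⟨d.classes_subset hc hz, hzS⟩⟩
  rw [Set.ncard_eq_toFinset_card' (d.N1 ∩ S), e, Finset.card_biUnion]
  · exact Finset.sum_congr rfl fun c _ => Set.ncard_eq_toFinset_card' _
  · intro c hc c' hc' hne
    refine Finset.disjoint_left.2 fun z hz hz' => hne ?_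
    rw [Set.mem_toFinset] at hz hz'
    rw [d.eq_cl hc hz.1, d.eq_cl hc' hz'.1]

theorem ncard_class {c : Set (G ⧸ d.H)} (hc : c ∈ d.classes) : c.ncard = 16 := by
  obtain ⟨q, hq, rfl⟩ := d.mem_classes.1 hc
  exact d.ncard_cl hq

theorem card_classes : d.classes.card = 7 := by
  have h := d.sum_classes Set.univ
  simp only [Set.inter_univ] at h
  rw [Finset.sum_congr rfl (fun c hc => d.ncard_class hc), Finset.sum_const, d.ncard_N1,
    smul_eq_mul] at h
  omega

/-- The elements fixing every class. -/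
noncomputable def K : Subgroup G := d.H ⊓ ⨅ q ∈ d.N1, d.Kc q

theorem mem_K {k : G} : k ∈ d.K ↔ k ∈ d.H ∧ ∀ q ∈ d.N1, k • q ∈ d.cl q := by
  simp only [K, mem_inf, mem_iInf]
  exact and_congr_right fun hk => forall₂_congr fun q _ => d.mem_Kc hk

theorem E_le_K : d.E ≤ d.K := fun _ he => d.mem_K.2 ⟨d.E_le he, fun _ _ => ⟨_, he, rfl⟩⟩

theorem K_le : d.K ≤ d.H := inf_le_left

theorem K_normalised {h k : G} (hh : h ∈ d.H) (hk : k ∈ d.K) : h * k * h⁻¹ ∈ d.K := by
  obtain ⟨hkH, hk⟩ := d.mem_K.1 hk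
  refine d.mem_K.2 ⟨mul_mem (mul_mem hh hkH) (inv_mem hh), fun q hq => ?_⟩
  have h1 := Set.smul_mem_smul_set (a := h) (hk (h⁻¹ • q) (d.H_N1 (inv_mem hh) hq))
  rw [d.smul_cl hh, smul_inv_smul] at h1
  rwa [mul_smul, mul_smul]

theorem card_K_dvd : Nat.card d.K ∣ 5760 := by
  obtain ⟨q, hq⟩ : d.N1.Nonempty := Set.nonempty_of_ncard_ne_zero (by rw [d.ncard_N1]; norm_num)
  rw [← d.card_Kc hq]
  exact card_dvd_of_le fun k hk => (d.mem_Kc (d.mem_K.1 hk).1).2 ((d.mem_K.1 hk).2 q hq)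

theorem not_five_dvd_K : ¬ 5 ∣ Nat.card d.K := by
  intro h
  haveI : Fact (Nat.Prime 5) := ⟨by norm_num⟩
  obtain ⟨⟨x, hxK⟩, hx⟩ := exists_prime_orderOf_dvd_card' 5 h
  rw [orderOf_mk] at hx
  obtain ⟨q, hq, hn⟩ := d.five_moves hx (d.smul_a_iff.2 (d.K_le hxK))
  exact hn ((d.mem_K.1 hxK).2 q hq)

theorem not_three_dvd_K : ¬ 3 ∣ Nat.card d.K := by
  intro h
  haveI : Fact (Nat.Prime 3) := ⟨by norm_num⟩
  haveI : Fact (Nat.Prime 7) := ⟨by norm_num⟩
  set N := d.K.subgroupOf d.H with hN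
  haveI : N.Normal := ⟨fun k hk g => d.K_normalised g.2 hk⟩
  have hNc : Nat.card N = Nat.card d.K := Nat.card_congr (subgroupOfEquivOfLe d.K_le).toEquiv
  obtain ⟨P⟩ : Nonempty (Sylow 3 N) := inferInstance
  have hsup := Sylow.normalizer_sup_eq_top P
  obtain ⟨P₀, hP₀⟩ : ∃ P₀, P₀ = (P : Subgroup N).map N.subtype := ⟨_, rfl⟩
  rw [← hP₀] at hsup
  set M := normalizer (P₀ : Set d.H)
  have h7 : 7 ∣ Nat.card M := by
    refine dvd_trans ?_ (N.relIndex_dvd_card M)
    have e : N.relIndex M = N.index := by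
      rw [← relIndex_top_right, ← hsup, relIndex_sup_right]
    have h1 := N.card_mul_index
    rw [d.card_H, hNc] at h1
    rw [e]
    rcases (Nat.Prime.dvd_mul (by norm_num : Nat.Prime 7)).1 (h1 ▸ (by norm_num : 7 ∣ 40320)) with h2 | h2
    · exact absurd (h2.trans d.card_K_dvd) (by norm_num)
    · exact h2
  obtain ⟨⟨⟨y, hyH⟩, hyM⟩, hy⟩ := exists_prime_orderOf_dvd_card' 7 h7
  rw [orderOf_mk, orderOf_mk] at hy
  set S := P₀.map d.H.subtype with hS
  have hSn : y ∈ normalizer (S : Set G) := by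
    refine mem_normalizer_iff.2 fun s => ⟨?_, ?_⟩
    · rintro ⟨s', hs', rfl⟩
      exact ⟨_, (mem_normalizer_iff.1 hyM s').1 hs', rfl⟩
    · rintro ⟨s', hs', e⟩
      refine ⟨(⟨y, hyH⟩ : d.H)⁻¹ * s' * ⟨y, hyH⟩, ?_, ?_⟩
      · refine (mem_normalizer_iff.1 hyM _).2 ?_
        simpa [mul_assoc] using hs'
      · simp only [coe_subtype] at e
        simp [e, mul_assoc]
  have hSc : Nat.card S = 3 ∨ Nat.card S = 9 := by
    rw [hS, card_map_of_injective d.H.subtype_injective, hP₀, card_map_of_injective N.subtype_injective]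
    obtain ⟨n, hn⟩ := IsPGroup.iff_card.1 P.isPGroup'
    have hd : Nat.card (P : Subgroup N) ∣ 5760 := (card_subgroup_dvd_card _).trans (hNc ▸ d.card_K_dvd)
    have h3 : 3 ∣ Nat.card (P : Subgroup N) :=
      P.dvd_card_of_dvd_card (hNc.symm ▸ h)
    rw [hn] at hd h3 ⊢
    rcases n with _ | _ | _ | n
    · norm_num at h3
    · exact Or.inl rfl
    · exact Or.inr rfl
    · exact absurd (dvd_trans (pow_dvd_pow 3 (by omega : 3 ≤ n + 3)) hd) (by norm_num)
  have hm := card_modEq_cent hy hSn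
  obtain ⟨s, hs, hs1⟩ := exists_ne_one_of_card (S := S ⊓ centralizer ({y} : Set G)) rfl (by
    intro e
    rw [e] at hm
    rcases hSc with e' | e' <;> rw [e'] at hm <;> exact absurd hm (by decide))
  have h14 := orderOf_dvd_natCard (⟨s, (mem_inf.1 hs).2⟩ : centralizer ({y} : Set G))
  have h9 := orderOf_dvd_natCard (⟨s, (mem_inf.1 hs).1⟩ : S)
  rw [orderOf_mk] at h14 h9
  rw [d.cent_seven y hy] at h14
  refine hs1 (orderOf_eq_one_iff.1 (Nat.dvd_one.1 ?_))
  rcases hSc with e' | e' <;> rw [e'] at h9 <;> simpa using Nat.dvd_gcd h14 h9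

/-- **Only `E` fixes all the classes.** -/
theorem K_eq : d.K = d.E := by
  haveI : Fact (Nat.Prime 5) := ⟨by norm_num⟩
  haveI : Fact (Nat.Prime 7) := ⟨by norm_num⟩
  refine (eq_of_le_of_card_ge d.E_le_K ?_).symm
  have h128 : Nat.card d.K ∣ 128 := by
    have h1 : Nat.Coprime (Nat.card d.K) 45 := by
      rw [show (45 : ℕ) = 3 * 3 * 5 by norm_num]
      have h3 := ((Nat.Prime.coprime_iff_not_dvd (by norm_num)).2 d.not_three_dvd_K).symm
      exact (h3.mul_right h3).mul_right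
        ((Nat.Prime.coprime_iff_not_dvd (by norm_num)).2 d.not_five_dvd_K).symm
    refine h1.dvd_of_dvd_mul_right ?_
    simpa using d.card_K_dvd
  have hnorm : ∀ x ∈ d.H, x ∈ normalizer (d.K : Set G) := fun x hx => mem_normalizer_iff.2 fun k =>
    ⟨d.K_normalised hx, fun hk => by simpa [mul_assoc] using d.K_normalised (inv_mem hx) hk⟩
  have hcent : ∀ (x : G) {m : ℕ}, Nat.card (centralizer ({x} : Set G)) = m →
      Nat.card (d.K ⊓ centralizer ({x} : Set G) : Subgroup G) ∣ Nat.gcd 128 m := fun x m hm =>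
    Nat.dvd_gcd ((card_dvd_of_le inf_le_left).trans h128) (hm ▸ card_dvd_of_le inf_le_right)
  -- an element of order seven
  obtain ⟨t, ht, ht1⟩ := d.exists_E
  obtain ⟨y, hyt, hy⟩ := d.exists_seven ht ht1
  have h7 := card_modEq_cent hy (hnorm y (d.cent_le_stab ht ht1 hyt))
  have h2 : Nat.card (d.K ⊓ centralizer ({y} : Set G) : Subgroup G) = 2 := by
    refine ((Nat.dvd_prime (by norm_num)).1 ((hcent y (d.cent_seven y hy)).trans (by norm_num))).resolve_left ?_
    intro e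
    have hm : t ∈ d.K ⊓ centralizer ({y} : Set G) :=
      mem_inf.2 ⟨d.E_le_K ht, mem_centralizer_singleton_iff.2 (mem_centralizer_singleton_iff.1 hyt).symm⟩
    rw [eq_bot_of_card_eq _ e, mem_bot] at hm
    exact ht1 hm
  -- an element of order five
  obtain ⟨⟨x, hxH⟩, hx⟩ := exists_prime_orderOf_dvd_card' (G := d.H) 5 (by rw [d.card_H]; norm_num)
  rw [orderOf_mk] at hx
  have h5 := card_modEq_cent hx (hnorm x hxH)
  have h1 : Nat.card (d.K ⊓ centralizer ({x} : Set G) : Subgroup G) = 1 := by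
    have := hcent x (d.cent_five x hx)
    norm_num at this
    exact this
  rw [h2] at h7
  rw [h1] at h5
  rw [d.card_E]
  have hle := Nat.le_of_dvd (by norm_num) h128
  obtain ⟨i, hi, e⟩ := (Nat.dvd_prime_pow Nat.prime_two (m := 7)).1 (by simpa using h128)
  rw [e] at h7 h5 ⊢
  unfold Nat.ModEq at h7 h5
  interval_cases i <;> omega

/-- **The colourings preserved by the stabiliser of a far point.** -/
theorem perm_bound {Y : G ⧸ d.H} (hY : Y ∈ d.N2) {k : ℕ} (f : Set (G ⧸ d.H) → Fin k)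
    (hf : ∀ s ∈ d.Stab2 Y, ∀ c ∈ d.classes, f (s • c) = f c) :
    72 ≤ ∏ i : Fin k, (d.classes.filter fun c => f c = i).card ! := by
  classical
  let ρ : d.Stab2 Y →* Equiv.Perm d.classes :=
    { toFun := fun s =>
        { toFun := fun c => ⟨(s : G) • (c : Set (G ⧸ d.H)), d.smul_classes s.2.1 c.2⟩
          invFun := fun c => ⟨(s : G)⁻¹ • (c : Set (G ⧸ d.H)), d.smul_classes (inv_mem s.2.1) c.2⟩
          left_inv := fun c => Subtype.ext (inv_smul_smul _ _)
          right_inv := fun c => Subtype.ext (smul_inv_smul _ _) }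
      map_one' := Equiv.ext fun c => Subtype.ext (one_smul G _)
      map_mul' := fun s t => Equiv.ext fun c => Subtype.ext (mul_smul (s : G) t _) }
  have hker : Nat.card ρ.ker ≤ 4 := by
    rw [← d.card_U hY.1.symm (fun e => hY.2 ⟨hY.1.symm, e⟩)]
    refine Nat.card_le_card_of_injective (fun s => (⟨(s : d.Stab2 Y), mem_inf.2 ⟨?_, s.1.2.2⟩⟩ :
      d.U d.a Y)) fun s t e => Subtype.ext (Subtype.ext (congrArg (fun u : d.U d.a Y => (u : G)) e))
    rw [d.Ec_a, ← d.K_eq, d.mem_K]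
    refine ⟨s.1.2.1, fun q hq => ?_⟩
    have h1 := congrArg Subtype.val (Equiv.ext_iff.1 (MonoidHom.mem_ker.1 s.2) ⟨_, d.cl_mem_classes hq⟩)
    have h2 : ((s : d.Stab2 Y) : G) • d.cl q = d.cl q := h1
    rw [← h2]
    exact Set.smul_mem_smul_set (self_mem_orb _ _)
  have hrange : Nat.card ρ.range ≤ ∏ i : Fin k, (d.classes.filter fun c => f c = i).card ! := by
    have h1 : Nat.card ρ.range ≤
        Nat.card {g : Equiv.Perm d.classes // (fun c => f c.1) ∘ g = fun c => f c.1} := by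
      refine Nat.card_le_card_of_injective (fun g => ⟨g.1, ?_⟩)
        fun g g' e => Subtype.ext (Subtype.mk.inj e)
      obtain ⟨s, hs⟩ := g.2
      funext c
      rw [← hs]
      exact hf s s.2 c c.2
    refine h1.trans_eq ?_
    rw [Nat.card_eq_fintype_card, DomMulAct.stabilizer_card]
    refine Finset.prod_congr rfl fun i _ => congrArg Nat.factorial ?_
    rw [← Fintype.card_coe]
    exact Fintype.card_congr ⟨fun c => ⟨c.1.1, Finset.mem_filter.2 ⟨c.1.2, c.2⟩⟩,
      fun c => ⟨⟨c.1, (Finset.mem_filter.1 c.2).1⟩, (Finset.mem_filter.1 c.2).2⟩,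
      fun _ => rfl, fun _ => rfl⟩
  have hmul : Nat.card ρ.range * Nat.card ρ.ker = 288 := by
    rw [← index_ker ρ, ρ.ker.index_mul_card, d.card_Stab2_far hY]
  nlinarith [Nat.mul_le_mul hrange hker]

end EData

end CfsgLib.ClassK.M23Nse
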