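import Cfsg.Agent.Lib.ClassK.M23Nse.Data

/-!
Orbit counting: invariant sets, fixed elements of a prime order element, conjugation orbits.
-/

set_option autoImplicit false

namespace CfsgLib.ClassK.M23Nse

open Subgroup

universe u

variable {G : Type u} [Group G] {X : Type*} [MulAction G X]

theorem card_orbit_mul (S : Subgroup G) (x : X) :
    {y | ∃ g ∈ S, g • x = y}.ncard * Nat.card (S ⊓ MulAction.stabilizer G x : Subgroup G) =
      Nat.card S := by
  have horb : {y | ∃ g ∈ S, g • x = y} = MulAction.orbit S x := by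
    ext y
    exact ⟨fun ⟨g, hg, e⟩ => ⟨⟨g, hg⟩, e⟩, fun ⟨g, e⟩ => ⟨g, g.2, e⟩⟩
  have hstab : Nat.card (S ⊓ MulAction.stabilizer G x : Subgroup G) =
      Nat.card (MulAction.stabilizer S x) :=
    Nat.card_congr ⟨fun g => ⟨⟨g, (mem_inf.1 g.2).1⟩, (mem_inf.1 g.2).2⟩,
      fun g => ⟨(g : S), mem_inf.2 ⟨(g : S).2, g.2⟩⟩, fun _ => rfl, fun _ => rfl⟩
  rw [horb, ← MulAction.index_stabilizer, hstab, mul_comm]
  exact (MulAction.stabilizer S x).card_mul_index

/-- An invariant set all of whose orbits have length `d` has cardinality divisible by `d`. -/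
theorem dvd_ncard_of_orbits [Finite X] (S : Subgroup G) {d : ℕ} (A : Set X)
    (hA : ∀ g ∈ S, ∀ x ∈ A, g • x ∈ A) (hd : ∀ x ∈ A, {y | ∃ g ∈ S, g • x = y}.ncard = d) :
    d ∣ A.ncard := by
  classical
  haveI := Fintype.ofFinite X
  have hmem : ∀ x : X, ∀ y, y ∈ {y | ∃ g ∈ S, g • x = y} →
      {z | ∃ g ∈ S, g • y = z} = {z | ∃ g ∈ S, g • x = z} := by
    rintro x _ ⟨g, hg, rfl⟩
    ext z
    exact ⟨fun ⟨k, hk, e⟩ => ⟨k * g, mul_mem hk hg, by rw [mul_smul, e]⟩,
      fun ⟨k, hk, e⟩ => ⟨k * g⁻¹, mul_mem hk (inv_mem hg), by rw [mul_smul, inv_smul_smul, e]⟩⟩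
  rw [Set.ncard_eq_toFinset_card' A,
    Finset.card_eq_sum_card_image (fun x => {y | ∃ g ∈ S, g • x = y}) A.toFinset]
  refine Finset.dvd_sum fun O hO => ?_
  obtain ⟨x, hx, rfl⟩ := Finset.mem_image.1 hO
  rw [Set.mem_toFinset] at hx
  refine dvd_of_eq ?_
  rw [← hd x hx, Set.ncard_eq_toFinset_card']
  congr 1
  ext y
  simp only [Finset.mem_filter, Set.mem_toFinset]
  constructor
  · intro hy
    obtain ⟨g, hg, e⟩ := hy
    exact ⟨e ▸ hA g hg x hx, hmem x y ⟨g, hg, e⟩⟩
  · rintro ⟨-, e⟩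
    have : y ∈ {z | ∃ g ∈ S, g • y = z} := ⟨1, one_mem S, one_smul G y⟩
    rw [e] at this
    exact this

/-- An element of prime order moves the points of an invariant set in cycles of that length. -/
theorem ncard_modEq_fixed [Finite X] {p : ℕ} [Fact p.Prime] {x : G} (hx : orderOf x = p)
    (A : Set X) (hA : ∀ q ∈ A, x • q ∈ A) :
    A.ncard ≡ {q | q ∈ A ∧ x • q = q}.ncard [MOD p] := by
  have hp : IsPGroup p (zpowers x) := IsPGroup.of_card (n := 1) (by rw [Nat.card_zpowers, hx, pow_one])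
  have hpow : ∀ (j : ℕ), ∀ q ∈ A, x ^ j • q ∈ A := by
    intro j
    induction j with
    | zero => simp
    | succ j ih => intro q hq; rw [pow_succ', mul_smul]; exact hA _ (ih q hq)
  have hinv : ∀ k ∈ zpowers x, ∀ q ∈ A, k • q ∈ A := by
    intro k hk
    have hf : IsOfFinOrder x := orderOf_pos_iff.1 (by rw [hx]; exact (Fact.out : p.Prime).pos)
    obtain ⟨j, rfl⟩ := (hf.mem_powers_iff_mem_zpowers).2 hk
    exact hpow j
  let inst : MulAction (zpowers x) A :=
    { smul := fun k q => ⟨(k : G) • (q : X), hinv k k.2 q q.2⟩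
      one_smul := fun q => Subtype.ext (one_smul G (q : X))
      mul_smul := fun k l q => Subtype.ext (mul_smul (k : G) (l : G) (q : X)) }
  have h := hp.card_modEq_card_fixedPoints A
  rw [Nat.card_coe_set_eq] at h
  rw [← Nat.card_coe_set_eq {q | q ∈ A ∧ x • q = q}]
  refine h.trans (congrArg (fun n => n % p) (Nat.card_congr
    ⟨fun q => ⟨q.1, q.1.2, congrArg Subtype.val (q.2 ⟨x, mem_zpowers x⟩)⟩,
     fun q => ⟨⟨q.1, q.2.1⟩, fun k => Subtype.ext ?_⟩, fun _ => rfl, fun _ => rfl⟩))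
  have : zpowers x ≤ MulAction.stabilizer G (q.1 : X) := zpowers_le.2 q.2.2
  exact this k.2

theorem conj_mem_normalizer {S : Subgroup G} {g s : G} (hg : g ∈ normalizer (S : Set G))
    (hs : s ∈ S) : g * s * g⁻¹ ∈ S :=
  (mem_normalizer_iff.1 hg s).1 hs

/-- The fixed elements of an element of prime order on a normalised subgroup. -/
theorem card_modEq_cent [Finite G] {p : ℕ} [Fact p.Prime] {x : G} (hx : orderOf x = p) {S : Subgroup G}
    (hS : x ∈ normalizer (S : Set G)) :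
    Nat.card S ≡ Nat.card (S ⊓ centralizer ({x} : Set G) : Subgroup G) [MOD p] := by
  let _ : MulAction G (ConjAct G) :=
    { smul := fun g y => ConjAct.toConjAct (g * ConjAct.ofConjAct y * g⁻¹)
      one_smul := fun y => by
        show ConjAct.toConjAct (1 * ConjAct.ofConjAct y * (1 : G)⁻¹) = y
        simp
      mul_smul := fun g k y => by
        show ConjAct.toConjAct (g * k * ConjAct.ofConjAct y * (g * k)⁻¹) =
          ConjAct.toConjAct (g * ConjAct.ofConjAct (ConjAct.toConjAct (k * ConjAct.ofConjAct y * k⁻¹)) * g⁻¹)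
        simp [mul_assoc] }
  haveI : Finite (ConjAct G) := inferInstanceAs (Finite G)
  have h := ncard_modEq_fixed (X := ConjAct G) hx {y | ConjAct.ofConjAct y ∈ S}
    (fun y hy => conj_mem_normalizer hS hy)
  have e1 : {y : ConjAct G | ConjAct.ofConjAct y ∈ S}.ncard = Nat.card S := by
    rw [← Nat.card_coe_set_eq]
    exact Nat.card_congr ⟨fun y => ⟨ConjAct.ofConjAct y.1, y.2⟩,
      fun s => ⟨ConjAct.toConjAct s.1, s.2⟩, fun _ => rfl, fun _ => rfl⟩
  have e2 : {y | y ∈ {y : ConjAct G | ConjAct.ofConjAct y ∈ S} ∧ x • y = y}.ncard =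
      Nat.card (S ⊓ centralizer ({x} : Set G) : Subgroup G) := by
    rw [← Nat.card_coe_set_eq]
    refine Nat.card_congr ⟨fun y => ⟨ConjAct.ofConjAct y.1, mem_inf.2 ⟨y.2.1,
      mem_centralizer_singleton_iff.2 ?_⟩⟩, fun s => ⟨ConjAct.toConjAct s.1, (mem_inf.1 s.2).1, ?_⟩,
      fun _ => rfl, fun _ => rfl⟩
    · have := congrArg ConjAct.ofConjAct y.2.2
      change x * ConjAct.ofConjAct y.1 * x⁻¹ = ConjAct.ofConjAct y.1 at this
      exact (mul_inv_eq_iff_eq_mul.1 this).symm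
    · show ConjAct.toConjAct (x * s.1 * x⁻¹) = ConjAct.toConjAct s.1
      rw [← mem_centralizer_singleton_iff.1 (mem_inf.1 s.2).2, mul_inv_cancel_right]
  rwa [e1, e2] at h

/-- A subgroup with small centralisers is transitive on the nonidentity elements of a normalised subgroup. -/
theorem exists_conj_eq [Finite G] {S E : Subgroup G} (hS : S ≤ normalizer (E : Set G)) {t : G} (ht : t ∈ E)
    (ht1 : t ≠ 1) {n : ℕ} (hn : Nat.card E = n + 1)
    (hc : Nat.card (S ⊓ centralizer ({t} : Set G) : Subgroup G) * n ≤ Nat.card S) {t' : G}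
    (ht' : t' ∈ E) (ht'1 : t' ≠ 1) : ∃ s ∈ S, s * t * s⁻¹ = t' := by
  classical
  haveI := Fintype.ofFinite G
  set f : S → G := fun s => s * t * (s : G)⁻¹
  set I := (Finset.univ : Finset S).image f with hI
  have hsub : I ⊆ (E : Set G).toFinset.erase 1 := by
    intro y hy
    obtain ⟨s, -, rfl⟩ := Finset.mem_image.1 hy
    rw [Finset.mem_erase, Set.mem_toFinset]
    exact ⟨fun e => ht1 (conj_eq_one_iff.1 e), conj_mem_normalizer (hS s.2) ht⟩
  have hEc : ((E : Set G).toFinset.erase 1).card = n := by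
    rw [Finset.card_erase_of_mem (by simp), Set.toFinset_card, ← Nat.card_eq_fintype_card,
      SetLike.coe_sort_coe, hn, Nat.add_sub_cancel]
  have hfib : Fintype.card S ≤ Nat.card (S ⊓ centralizer ({t} : Set G) : Subgroup G) * I.card := by
    rw [← Finset.card_univ]
    refine Finset.card_le_mul_card_image _ _ fun y hy => ?_
    obtain ⟨s₀, -, rfl⟩ := Finset.mem_image.1 hy
    rw [← Fintype.card_coe, ← Nat.card_eq_fintype_card]
    refine Nat.card_le_card_of_injective (fun s => ⟨(s₀ : G)⁻¹ * (s.1 : G), mem_inf.2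
      ⟨mul_mem (inv_mem s₀.2) s.1.2, mem_centralizer_singleton_iff.2 ?_⟩⟩) ?_
    · have he : (s.1 : G) * t * (s.1 : G)⁻¹ = s₀ * t * (s₀ : G)⁻¹ := (Finset.mem_filter.1 s.2).2
      calc (s₀ : G)⁻¹ * (s.1 : G) * t = (s₀ : G)⁻¹ * ((s.1 : G) * t * (s.1 : G)⁻¹) * s.1 := by group
        _ = t * ((s₀ : G)⁻¹ * s.1) := by rw [he]; group
    · intro s s' e
      exact Subtype.ext (Subtype.ext (mul_left_cancel (congrArg Subtype.val e :)))
  have hle : n ≤ I.card := by
    by_contra hlt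
    have h1 : Nat.card (S ⊓ centralizer ({t} : Set G) : Subgroup G) * I.card <
        Nat.card (S ⊓ centralizer ({t} : Set G) : Subgroup G) * n :=
      Nat.mul_lt_mul_of_pos_left (by omega) Nat.card_pos
    rw [← Nat.card_eq_fintype_card] at hfib
    omega
  have : t' ∈ I := by
    rw [Finset.eq_of_subset_of_card_le hsub (by rw [hEc]; exact hle), Finset.mem_erase, Set.mem_toFinset]
    exact ⟨ht'1, ht'⟩
  obtain ⟨s, -, hs⟩ := Finset.mem_image.1 this
  exact ⟨s, s.2, hs⟩

end CfsgLib.ClassK.M23Nse
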