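import Cfsg.Agent.Lib.Golay.TriangleFreeSquare

/-!
Strongly regular graphs with unequal multiplicities: the discriminant is a square.
-/

set_option autoImplicit false

namespace CfsgLib.ClassK.M23Nse

open scoped _root_.Classical
open Matrix CfsgLib.TriangleFree

/-- `(l - m) ^ 2 + 4 (k - m)` is a square unless the multiplicities are equal. -/
theorem srg_discriminant {V : Type*} [Fintype V] (R : V → V → Prop)
    (hirr : ∀ x, ¬ R x x) (hsymm : ∀ x y, R x y → R y x) {k l m n : ℕ} (hn : Fintype.card V = n)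
    (hn0' : 0 < n) (hmk : m < k)
    (hk : ∀ x, (Finset.univ.filter fun y => R x y).card = k)
    (hl : ∀ x y, R x y → (Finset.univ.filter fun z => R x z ∧ R y z).card = l)
    (hm : ∀ x y, x ≠ y → ¬ R x y → (Finset.univ.filter fun z => R x z ∧ R y z).card = m)
    (hT : 2 * (k : ℤ) + ((n : ℤ) - 1) * ((l : ℤ) - m) ≠ 0) :
    ∃ q : ℤ, q * q = ((l : ℤ) - m) * ((l : ℤ) - m) + 4 * ((k : ℤ) - m) := by
  obtain ⟨N, en⟩ : ∃ N : ℝ, N = (Fintype.card V : ℝ) := ⟨_, rfl⟩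
  have hn0 : N ≠ 0 := by
    rw [en, hn]
    exact_mod_cast hn0'.ne'
  obtain ⟨δ, eδ⟩ : ∃ δ : ℝ, δ = (l : ℝ) - m := ⟨_, rfl⟩
  obtain ⟨A, eA⟩ : ∃ A : Matrix V V ℝ, A = Matrix.of fun i j => if R i j then 1 else 0 := ⟨_, rfl⟩
  obtain ⟨J, eJ⟩ : ∃ J : Matrix V V ℝ, J = Matrix.of fun _ _ => 1 := ⟨_, rfl⟩
  have hAA : A * A = ((k : ℝ) - m) • (1 : Matrix V V ℝ) + δ • A + (m : ℝ) • J := by
    ext i j
    have e : (A * A) i j = ((Finset.univ.filter fun z => R i z ∧ R j z).card : ℝ) := by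
      rw [eA, Matrix.mul_apply, ← Finset.sum_boole]
      refine Finset.sum_congr rfl fun z _ => ?_
      simp only [Matrix.of_apply]
      by_cases h : R i z <;> by_cases h' : R j z <;>
        simp [h, h', (show R z j ↔ R j z from ⟨hsymm _ _, hsymm _ _⟩)]
    simp only [Matrix.add_apply, Matrix.smul_apply, e, smul_eq_mul]
    simp only [eA, eJ, Matrix.of_apply, Matrix.one_apply, eδ]
    by_cases hij : i = j
    · subst hij
      simp [hirr, hk]
    · by_cases h : R i j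
      · simp [h, hl i j h, hij]
      · simp [h, hm i j hij h, hij]
  have hAJ : A * J = (k : ℝ) • J := by
    ext i j
    simp [eA, eJ, Matrix.mul_apply, Finset.sum_boole, hk]
  have hJA : J * A = (k : ℝ) • J := by
    ext i j
    have : (Finset.univ.filter fun z => R z j) = Finset.univ.filter fun z => R j z :=
      Finset.filter_congr fun z _ => ⟨hsymm _ _, hsymm _ _⟩
    simp [eA, eJ, Matrix.mul_apply, Finset.sum_boole, this, hk]
  have hJJ : J * J = N • J := by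
    ext i j
    simp [eJ, en, Matrix.mul_apply]
  obtain ⟨M, eM⟩ : ∃ M : Matrix V V ℝ, M = (2 : ℝ) • A - δ • 1 := ⟨_, rfl⟩
  obtain ⟨Δ, eΔ⟩ : ∃ Δ : ℝ, Δ = δ * δ + 4 * ((k : ℝ) - m) := ⟨_, rfl⟩
  have hMM : M * M = Δ • (1 : Matrix V V ℝ) + (4 * (m : ℝ)) • J := by
    rw [eM]
    simp only [sub_mul, mul_sub, Matrix.smul_mul, Matrix.mul_smul, mul_one, one_mul, hAA, smul_smul,
      smul_add, eΔ]
    module
  have hMJ : M * J = (2 * (k : ℝ) - δ) • J ∧ J * M = (2 * (k : ℝ) - δ) • J := by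
    constructor <;>
      simp only [eM, sub_mul, mul_sub, Matrix.smul_mul, Matrix.mul_smul, mul_one, one_mul, hAJ, hJA,
        smul_smul] <;> module
  obtain ⟨Q, eQ⟩ : ∃ Q : Matrix V V ℝ, Q = 1 - N⁻¹ • J := ⟨_, rfl⟩
  have hQQ : Q * Q = Q := by
    rw [eQ]
    simp only [sub_mul, mul_sub, one_mul, mul_one, Matrix.smul_mul, Matrix.mul_smul, hJJ, smul_smul]
    rw [inv_mul_cancel₀ hn0, mul_one]
    abel
  have hJQ : J * Q = 0 := by
    rw [eQ, mul_sub, mul_one, Matrix.mul_smul, hJJ, smul_smul, inv_mul_cancel₀ hn0, one_smul,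
      sub_self]
  have hMQ : M * Q = Q * M := by
    rw [eQ, mul_sub, sub_mul, Matrix.mul_smul, Matrix.smul_mul, hMJ.1, hMJ.2, mul_one, one_mul]
  obtain ⟨X, eX⟩ : ∃ X : Matrix V V ℝ, X = M * Q := ⟨_, rfl⟩
  have hXX : X * X = Δ • Q := by
    rw [eX, mul_assoc, ← mul_assoc Q, ← hMQ, mul_assoc M Q Q, hQQ, ← mul_assoc, hMM, add_mul,
      Matrix.smul_mul, Matrix.smul_mul, one_mul, hJQ, smul_zero, add_zero]
  have hXQ : X * Q = X := by rw [eX, mul_assoc, hQQ]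
  have hQX : Q * X = X := by rw [eX, ← mul_assoc, ← hMQ, mul_assoc, hQQ]
  have hΔ : 0 < Δ := by
    rw [eΔ]
    have : (m : ℝ) < k := by exact_mod_cast hmk
    nlinarith
  obtain ⟨s, es⟩ : ∃ s : ℝ, s = Real.sqrt Δ := ⟨_, rfl⟩
  have hs : s * s = Δ := by rw [es]; exact Real.mul_self_sqrt hΔ.le
  have hs0 : s ≠ 0 := fun h => by rw [h, mul_zero] at hs; exact hΔ.ne hs
  have hcoef : s⁻¹ * s⁻¹ * Δ = 1 := by
    rw [← hs]; field_simp
  obtain ⟨Y, eY⟩ : ∃ Y : Matrix V V ℝ, Y = s⁻¹ • X := ⟨_, rfl⟩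
  have hYY : Y * Y = Q := by
    rw [eY, Matrix.smul_mul, Matrix.mul_smul, hXX, smul_smul, smul_smul, hcoef, one_smul]
  have hYQ : Y * Q = Y := by rw [eY, Matrix.smul_mul, hXQ]
  have hQY : Q * Y = Y := by rw [eY, Matrix.mul_smul, hQX]
  obtain ⟨f, hf⟩ := trace_idem_real (Q := (2 : ℝ)⁻¹ • (Q + Y)) (by
    simp only [Matrix.smul_mul, Matrix.mul_smul, add_mul, mul_add, hQQ, hYQ, hQY, hYY, smul_smul]
    module)
  obtain ⟨g, hg⟩ := trace_idem_real (Q := (2 : ℝ)⁻¹ • (Q - Y)) (by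
    simp only [Matrix.smul_mul, Matrix.mul_smul, sub_mul, mul_sub, hQQ, hYQ, hQY, hYY, smul_smul]
    module)
  simp only [Matrix.trace_smul, Matrix.trace_add, Matrix.trace_sub, smul_eq_mul] at hf hg
  have hT' : X.trace = ((f : ℝ) - g) * s := by
    have : X = s • Y := by rw [eY, smul_smul, mul_inv_cancel₀ hs0, one_smul]
    rw [this, Matrix.trace_smul, smul_eq_mul, ← hf, ← hg]; ring
  obtain ⟨T, eT⟩ : ∃ T : ℤ, T = -(2 * (k : ℤ) + ((n : ℤ) - 1) * ((l : ℤ) - m)) := ⟨_, rfl⟩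
  have hTv : X.trace = (T : ℝ) := by
    rw [eX, eQ, mul_sub, mul_one, Matrix.mul_smul, hMJ.1, Matrix.trace_sub, Matrix.trace_smul,
      Matrix.trace_smul]
    have tA : A.trace = 0 := by simp [eA, Matrix.trace, hirr]
    have tJ : J.trace = N := by simp [eJ, en, Matrix.trace]
    rw [eM, Matrix.trace_sub, Matrix.trace_smul, Matrix.trace_smul, Matrix.trace_one, tA, tJ, ← en]
    simp only [smul_eq_mul]
    field_simp
    rw [eT, en, hn, eδ]
    push_cast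
    ring
  obtain ⟨D, eD⟩ : ∃ D : ℤ, D = ((l : ℤ) - m) * ((l : ℤ) - m) + 4 * ((k : ℤ) - m) := ⟨_, rfl⟩
  have hTD : T * T = ((f : ℤ) - g) * ((f : ℤ) - g) * D := by
    have : (T : ℝ) * T = ((f : ℝ) - g) * ((f : ℝ) - g) * D := by
      have h2 : (D : ℝ) = Δ := by rw [eD, eΔ, eδ]; push_cast; ring
      rw [← hTv, h2, hT', ← hs]; ring
    exact_mod_cast this
  have hT0 : T ≠ 0 := by
    rw [eT]; exact neg_ne_zero.2 hT
  have hfg : (f : ℤ) - g ≠ 0 := fun h => hT0 (by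
    rw [h, zero_mul, zero_mul] at hTD; exact mul_self_eq_zero.1 hTD)
  have hdvd : ((f : ℤ) - g) ∣ T :=
    (Int.pow_dvd_pow_iff (two_ne_zero)).1 ⟨D, by rw [pow_two, pow_two]; exact hTD⟩
  obtain ⟨q, hq⟩ := hdvd
  refine ⟨q, ?_⟩
  rw [← eD]
  refine mul_left_cancel₀ (mul_ne_zero hfg hfg) ?_
  rw [← hTD, hq]; ring

end CfsgLib.ClassK.M23Nse
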