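import Cfsg.Agent.Lib.ClassK.M23Nse.Geom.Trans
import Cfsg.Agent.Lib.ClassK.M23Nse.Geom.Srg

/-!
The parameters `(253, 112, 36, 60)`: a class is a coclique and a point has six neighbours in each of
the other classes.
-/

set_option autoImplicit false
set_option linter.unusedSectionVars false

namespace CfsgLib.ClassK.M23Nse

open Subgroup
open scoped Pointwise

universe u

variable {G : Type u} [Group G] [Finite G]

theorem card_filter_eq_ncard {X : Type*} [Fintype X] (P : X → Prop) [DecidablePred P] :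
    (Finset.univ.filter P).card = {x | P x}.ncard := by
  rw [← Set.ncard_coe_finset]; simp

namespace EData

variable (d : EData G)

/-- The neighbours. -/
def nb (q : G ⧸ d.H) : Set (G ⧸ d.H) := {z | d.Adj q z}

theorem smul_nb (g : G) (q : G ⧸ d.H) : g • d.nb q = d.nb (g • q) := by
  ext z
  rw [Set.mem_smul_set_iff_inv_smul_mem]
  show d.Adj q (g⁻¹ • z) ↔ d.Adj (g • q) z
  rw [← d.adj_smul_iff g, smul_inv_smul]

theorem nb_a : d.nb d.a = d.N1 := rfl

theorem ncard_nb (q : G ⧸ d.H) : (d.nb q).ncard = 112 := by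
  obtain ⟨g, rfl⟩ := d.exists_smul_a q
  rw [← d.smul_nb, Set.ncard_smul_set, d.nb_a, d.ncard_N1]

theorem smul_cl {h : G} (hh : h ∈ d.H) (q : G ⧸ d.H) : h • d.cl q = d.cl (h • q) :=
  smul_orb (show h ∈ normalizer (d.E : Set G) from hh) q

theorem ncard_common_smul (g : G) (q q' : G ⧸ d.H) :
    (d.nb (g • q) ∩ d.nb (g • q')).ncard = (d.nb q ∩ d.nb q').ncard := by
  rw [← d.smul_nb, ← d.smul_nb, ← Set.smul_set_inter, Set.ncard_smul_set]

theorem ncard_inter_cl {h : G} (hh : h ∈ d.H) (q p : G ⧸ d.H) :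
    (d.cl (h • p) ∩ d.nb (h • q)).ncard = (d.cl p ∩ d.nb q).ncard := by
  rw [← d.smul_cl hh, ← d.smul_nb, ← Set.smul_set_inter, Set.ncard_smul_set]

theorem common_of_adj {x y u v : G ⧸ d.H} (hxy : d.Adj x y) (huv : d.Adj u v) :
    (d.nb x ∩ d.nb y).ncard = (d.nb u ∩ d.nb v).ncard := by
  have key : ∀ {x y : G ⧸ d.H}, d.Adj x y → ∀ q ∈ d.N1,
      (d.nb x ∩ d.nb y).ncard = (d.nb d.a ∩ d.nb q).ncard := by
    intro x y hxy q hq
    obtain ⟨g, rfl⟩ := d.exists_smul_a x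
    have hy : g⁻¹ • y ∈ d.N1 := by
      have := d.adj_smul g⁻¹ hxy
      rwa [inv_smul_smul] at this
    obtain ⟨h, hh, rfl⟩ := d.trans_N1 hy hq
    rw [← d.ncard_common_smul (g * h⁻¹) d.a, mul_smul, mul_smul, d.smul_a_iff.2 (inv_mem hh),
      inv_smul_smul, smul_inv_smul]
  obtain ⟨q, hq⟩ : d.N1.Nonempty := Set.nonempty_of_ncard_ne_zero (by rw [d.ncard_N1]; norm_num)
  rw [key hxy q hq, key huv q hq]

theorem common_of_not_adj {x y u v : G ⧸ d.H} (h₁ : x ≠ y) (hxy : ¬ d.Adj x y) (h₂ : u ≠ v)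
    (huv : ¬ d.Adj u v) : (d.nb x ∩ d.nb y).ncard = (d.nb u ∩ d.nb v).ncard := by
  have key : ∀ {x y : G ⧸ d.H}, x ≠ y → ¬ d.Adj x y → ∀ q ∈ d.N2,
      (d.nb x ∩ d.nb y).ncard = (d.nb d.a ∩ d.nb q).ncard := by
    intro x y hne hxy q hq
    obtain ⟨g, rfl⟩ := d.exists_smul_a x
    have hy : g⁻¹ • y ∈ d.N2 := by
      refine ⟨fun e => hne ?_, fun e => hxy ?_⟩
      · rw [inv_smul_eq_iff.1 e]
      · have := d.adj_smul g e
        rwa [smul_inv_smul] at this
    obtain ⟨h, hh, rfl⟩ := d.trans_N2 hy hq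
    rw [← d.ncard_common_smul (g * h⁻¹) d.a, mul_smul, mul_smul, d.smul_a_iff.2 (inv_mem hh),
      inv_smul_smul, smul_inv_smul]
  obtain ⟨q, hq⟩ : d.N2.Nonempty := Set.nonempty_of_ncard_ne_zero (by rw [d.ncard_N2]; norm_num)
  rw [key h₁ hxy q hq, key h₂ huv q hq]

/-- Edges between the two suborbits. -/
theorem edge_count {q r : G ⧸ d.H} (hq : q ∈ d.N1) (hr : r ∈ d.N2) :
    112 * (d.nb q ∩ d.N2).ncard = 140 * (d.nb d.a ∩ d.nb r).ncard ∧
      (d.nb q ∩ d.N2).ncard + (d.nb d.a ∩ d.nb q).ncard = 111 := by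
  classical
  haveI := Fintype.ofFinite (G ⧸ d.H)
  have split : ∀ x ∈ d.N1, (d.nb x ∩ d.N2).ncard + (d.nb d.a ∩ d.nb x).ncard = 111 := by
    intro x hx
    have e : d.nb x = insert d.a ((d.nb d.a ∩ d.nb x) ∪ (d.nb x ∩ d.N2)) := by
      ext z
      constructor
      · intro hz
        by_cases hza : z = d.a
        · exact Or.inl hza
        by_cases hA : d.Adj d.a z
        · exact Or.inr (Or.inl ⟨hA, hz⟩)
        · exact Or.inr (Or.inr ⟨hz, hza, hA⟩)
      · rintro (rfl | ⟨-, h⟩ | ⟨h, -⟩)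
        · exact d.adj_symm hx
        · exact h
        · exact h
    have hdj : Disjoint (d.nb d.a ∩ d.nb x) (d.nb x ∩ d.N2) :=
      Set.disjoint_left.2 fun z h h' => h'.2.2 h.1
    have h112 := d.ncard_nb x
    rw [e, Set.ncard_insert_of_notMem ?_ (Set.toFinite _), Set.ncard_union_eq hdj (Set.toFinite _)
      (Set.toFinite _)] at h112
    · omega
    · rintro (⟨h, -⟩ | ⟨-, h⟩)
      · exact d.adj_irrefl _ h
      · exact h.1 rfl
  refine ⟨?_, split q hq⟩
  have h := Finset.sum_card_bipartiteAbove_eq_sum_card_bipartiteBelow (s := d.N1.toFinset)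
    (t := d.N2.toFinset) (fun x y : G ⧸ d.H => d.Adj x y)
  rw [Finset.sum_congr rfl (fun x hx => ?_ : ∀ x ∈ d.N1.toFinset, _ = (d.nb q ∩ d.N2).ncard),
    Finset.sum_congr rfl (fun y hy => ?_ : ∀ y ∈ d.N2.toFinset, _ = (d.nb d.a ∩ d.nb r).ncard),
    Finset.sum_const, Finset.sum_const, ← Set.ncard_eq_toFinset_card', ← Set.ncard_eq_toFinset_card',
    d.ncard_N1, d.ncard_N2, smul_eq_mul, smul_eq_mul] at h
  · exact h
  · rw [Set.mem_toFinset] at hy
    rw [d.common_of_not_adj hr.1.symm hr.2 hy.1.symm hy.2, ← Set.ncard_coe_finset]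
    congr 1
    ext z
    simp only [Finset.bipartiteBelow, Finset.coe_filter, Set.mem_toFinset]
    exact ⟨fun h => ⟨h.1, d.adj_symm h.2⟩, fun h => ⟨h.1, d.adj_symm h.2⟩⟩
  · rw [Set.mem_toFinset] at hx
    have h1 := split x hx
    have h2 := split q hq
    rw [d.common_of_adj hx hq] at h1
    rw [show (d.nb q ∩ d.N2).ncard = (d.nb x ∩ d.N2).ncard by omega, ← Set.ncard_coe_finset]
    congr 1
    ext z
    simp only [Finset.bipartiteAbove, Finset.coe_filter, Set.mem_toFinset]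
    exact ⟨fun h => ⟨h.2, h.1⟩, fun h => ⟨h.2, h.1⟩⟩

theorem inter_own {q : G ⧸ d.H} (hq : q ∈ d.N1) :
    (d.cl q ∩ d.nb q).ncard = 0 ∨ (d.cl q ∩ d.nb q).ncard = 15 := by
  by_cases h : (d.cl q ∩ d.nb q).Nonempty
  · right
    obtain ⟨p, hp, hpq⟩ := h
    have e : d.cl q ∩ d.nb q = d.cl q \ {q} := by
      ext z
      constructor
      · exact fun hz => ⟨hz.1, fun e => d.adj_irrefl q (Set.mem_singleton_iff.1 e ▸ hz.2)⟩
      · rintro ⟨hz, hzq⟩
        obtain ⟨s, hs, rfl⟩ := d.trans_cl hq hp hpq.1.symm hz hzq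
        refine ⟨hz, ?_⟩
        have := d.adj_smul s hpq
        rwa [show s • q = q from hs.2] at this
    rw [e, Set.ncard_sdiff_singleton_of_mem (self_mem_orb _ _), d.ncard_cl hq]
  · left
    rw [Set.not_nonempty_iff_eq_empty.1 h, Set.ncard_empty]

theorem inter_const {q p p' : G ⧸ d.H} (hq : q ∈ d.N1) (hp : p ∈ d.N1) (hpq : p ∉ d.cl q)
    (hp' : p' ∈ d.N1) (hp'q : p' ∉ d.cl q) :
    (d.cl p ∩ d.nb q).ncard = (d.cl p' ∩ d.nb q).ncard := by
  obtain ⟨s, hs, hsp⟩ := d.trans_classes hq hp hpq hp' hp'q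
  rw [← d.ncard_inter_cl hs.1 q p, show s • q = q from hs.2, show d.cl (s • p) = d.cl p' from orb_eq hsp]

theorem inter_le (q : G ⧸ d.H) {p : G ⧸ d.H} (hp : p ∈ d.N1) : (d.cl p ∩ d.nb q).ncard ≤ 16 :=
  (Set.ncard_le_ncard Set.inter_subset_left (Set.toFinite _)).trans (d.ncard_cl hp).le

/-- The common neighbours by classes. -/
theorem common_split {q p : G ⧸ d.H} (hq : q ∈ d.N1) (hp : p ∈ d.N1) (hpq : p ∉ d.cl q) :
    (d.nb d.a ∩ d.nb q).ncard = (d.cl q ∩ d.nb q).ncard + 6 * (d.cl p ∩ d.nb q).ncard := by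
  classical
  haveI := Fintype.ofFinite (G ⧸ d.H)
  set C := d.N1.toFinset.image fun z => (d.cl z).toFinset with hC
  have hfib : ∀ z ∈ d.N1, (d.N1.toFinset.filter fun z' => (d.cl z').toFinset = (d.cl z).toFinset) =
      (d.cl z).toFinset := by
    intro z hz
    ext z'
    rw [Finset.mem_filter, Set.mem_toFinset, Set.mem_toFinset, Set.toFinset_inj]
    exact ⟨fun h => h.2 ▸ self_mem_orb _ _, fun h => ⟨d.cl_subset hz h, orb_eq h⟩⟩
  have hC7 : C.card = 7 := by
    have h := Finset.card_eq_sum_card_image (fun z => (d.cl z).toFinset) d.N1.toFinset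
    rw [← hC, Finset.sum_congr rfl (fun c hc => ?_ : ∀ c ∈ C, _ = 16), Finset.sum_const,
      ← Set.ncard_eq_toFinset_card', d.ncard_N1, smul_eq_mul] at h
    · omega
    · obtain ⟨z, hz, rfl⟩ := Finset.mem_image.1 hc
      rw [Set.mem_toFinset] at hz
      rw [hfib z hz, ← Set.ncard_eq_toFinset_card', d.ncard_cl hz]
  set T := d.N1.toFinset.filter fun z => d.Adj q z with hT
  have hTc : T.card = (d.nb d.a ∩ d.nb q).ncard := by
    rw [← Set.ncard_coe_finset]; congr 1; ext z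
    simp only [hT, Finset.coe_filter, Set.mem_toFinset]
    exact ⟨fun h => ⟨h.1, h.2⟩, fun h => ⟨h.1, h.2⟩⟩
  rw [← hTc, Finset.card_eq_sum_card_fiberwise (t := C)
    (f := fun z => (d.cl z).toFinset) (fun z hz => Finset.mem_image_of_mem _ (Finset.mem_filter.1 hz).1),
    ← Finset.add_sum_erase _ _ (show (d.cl q).toFinset ∈ C from
      Finset.mem_image_of_mem (fun z => (d.cl z).toFinset) (Set.mem_toFinset.2 hq))]
  have hval : ∀ z ∈ d.N1, (T.filter fun z' => (d.cl z').toFinset = (d.cl z).toFinset).card =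
      (d.cl z ∩ d.nb q).ncard := by
    intro z hz
    rw [hT, Finset.filter_comm, hfib z hz, ← Set.ncard_coe_finset]
    congr 1; ext z'; simp [nb]
  rw [hval q hq, Finset.sum_congr rfl (fun c hc => ?_ : ∀ c ∈ C.erase (d.cl q).toFinset,
    (T.filter fun z' => (d.cl z').toFinset = c).card = (d.cl p ∩ d.nb q).ncard), Finset.sum_const,
    Finset.card_erase_of_mem (Finset.mem_image_of_mem _ (Set.mem_toFinset.2 hq)), hC7, smul_eq_mul]
  obtain ⟨hne, hc⟩ := Finset.mem_erase.1 hc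
  obtain ⟨z, hz, rfl⟩ := Finset.mem_image.1 hc
  rw [Set.mem_toFinset] at hz
  rw [hval z hz]
  exact d.inter_const hq hz (fun h => hne (by rw [Set.toFinset_inj]; exact orb_eq h)) hp hpq

theorem exists_other {q : G ⧸ d.H} (hq : q ∈ d.N1) : ∃ p ∈ d.N1, p ∉ d.cl q := by
  by_contra h
  push Not at h
  have := Set.ncard_le_ncard h (Set.toFinite _)
  rw [d.ncard_N1, d.ncard_cl hq] at this
  omega

theorem not_square {N : ℕ} (h : Nat.sqrt N * Nat.sqrt N ≠ N) (q : ℤ) : q * q ≠ (N : ℤ) := by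
  intro e
  refine h ((Nat.exists_mul_self N).1 ⟨q.natAbs, ?_⟩)
  rw [← Int.natAbs_mul, e, Int.natAbs_natCast]

/-- The feasible parameters. -/
theorem params_unique {δ s l m : ℕ} (hl : l = δ + 6 * s) (hδ : δ = 0 ∨ δ = 15) (_hs : s ≤ 16) {r : ℕ}
    (hr : r + l = 111) (hm : 112 * r = 140 * m) (hl' : l < 111)
    (hsq : ∃ q : ℤ, q * q = ((l : ℤ) - m) * ((l : ℤ) - m) + 4 * ((112 : ℤ) - m)) :
    δ = 0 ∧ s = 6 ∧ l = 36 ∧ m = 60 := by
  obtain ⟨q, hq⟩ := hsq
  have : (l = 6 ∧ m = 84) ∨ (l = 21 ∧ m = 72) ∨ (l = 36 ∧ m = 60) ∨ (l = 51 ∧ m = 48) ∨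
      (l = 66 ∧ m = 36) ∨ (l = 81 ∧ m = 24) ∨ (l = 96 ∧ m = 12) := by
    rcases hδ with rfl | rfl <;> omega
  rcases this with ⟨rfl, rfl⟩ | ⟨rfl, rfl⟩ | ⟨rfl, rfl⟩ | ⟨rfl, rfl⟩ | ⟨rfl, rfl⟩ | ⟨rfl, rfl⟩ |
    ⟨rfl, rfl⟩
  · exact absurd hq (by have := not_square (N := 6196) (by norm_num) q; norm_num at this ⊢; exact this)
  · exact absurd hq (by have := not_square (N := 2761) (by norm_num) q; norm_num at this ⊢; exact this)
  · rcases hδ with rfl | rfl <;> omega
  · exact absurd hq (by have := not_square (N := 265) (by norm_num) q; norm_num at this ⊢; exact this)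
  · exact absurd hq (by have := not_square (N := 1204) (by norm_num) q; norm_num at this ⊢; exact this)
  · exact absurd hq (by have := not_square (N := 3601) (by norm_num) q; norm_num at this ⊢; exact this)
  · exact absurd hq (by have := not_square (N := 7456) (by norm_num) q; norm_num at this ⊢; exact this)

/-- **The parameters.** -/
theorem params {q r : G ⧸ d.H} (hq : q ∈ d.N1) (hr : r ∈ d.N2) :
    d.cl q ∩ d.nb q = ∅ ∧ (∀ p ∈ d.N1, p ∉ d.cl q → (d.cl p ∩ d.nb q).ncard = 6) ∧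
      (d.nb d.a ∩ d.nb r).ncard = 60 := by
  classical
  haveI := Fintype.ofFinite (G ⧸ d.H)
  obtain ⟨p, hp, hpq⟩ := d.exists_other hq
  have hl := d.common_split hq hp hpq
  obtain ⟨hm, hr'⟩ := d.edge_count hq hr
  set r₀ := (d.nb q ∩ d.N2).ncard with hr₀
  set l := (d.nb d.a ∩ d.nb q).ncard with hldef
  set m := (d.nb d.a ∩ d.nb r).ncard with hmdef
  have hl111 : l < 111 := by
    by_contra hge
    have h0 : m = 0 := by omega
    -- otherwise the neighbours of a far point would all be far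
    have hsub : ∀ z ∈ d.N2, d.nb z ⊆ d.N2 := by
      intro z hz w hw
      refine ⟨fun e => hz.2 (d.adj_symm (e ▸ hw)), fun e => ?_⟩
      have : (d.nb d.a ∩ d.nb z).ncard = 0 := by
        rw [← h0, hmdef, d.common_of_not_adj hz.1.symm hz.2 hr.1.symm hr.2]
      rw [Set.ncard_eq_zero (Set.toFinite _)] at this
      exact (this.le ⟨e, hw⟩ : w ∈ (∅ : Set (G ⧸ d.H)))
    obtain ⟨r', hr', hr'n⟩ : ∃ r' ∈ d.N2, r' ∉ insert r (d.nb r) := by
      by_contra hcon
      push Not at hcon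
      have h1 := Set.ncard_le_ncard hcon (Set.toFinite _)
      have h2 := Set.ncard_insert_le r (d.nb r)
      rw [d.ncard_nb] at h2
      rw [d.ncard_N2] at h1
      omega
    have hrr : r ≠ r' := fun e => hr'n (e ▸ Set.mem_insert r (d.nb r))
    have hadj : ¬ d.Adj r r' := fun e => hr'n (Set.mem_insert_of_mem r e)
    have hdis : (d.nb r ∩ d.nb r').ncard = 0 := by
      rw [← h0, hmdef, d.common_of_not_adj hrr hadj hr.1.symm hr.2]
    have hu := Set.ncard_union_eq (Set.disjoint_iff_inter_eq_empty.2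
      ((Set.ncard_eq_zero (Set.toFinite _)).1 hdis)) (Set.toFinite _) (Set.toFinite _)
    have hl2 := Set.ncard_le_ncard (Set.union_subset (hsub r hr) (hsub r' hr')) (Set.toFinite _)
    rw [hu, d.ncard_nb, d.ncard_nb, d.ncard_N2] at hl2
    omega
  have hcommon : ∀ x y : G ⧸ d.H, (Finset.univ.filter fun z => d.Adj x z ∧ d.Adj y z).card =
      (d.nb x ∩ d.nb y).ncard := fun x y => card_filter_eq_ncard _
  have hsq := srg_discriminant (V := G ⧸ d.H) d.Adj d.adj_irrefl (fun x y h => d.adj_symm h)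
    (k := 112) (l := l) (m := m) (n := 253)
    (by rw [← Nat.card_eq_fintype_card, d.card_space]) (by norm_num) (by omega)
    (fun x => (card_filter_eq_ncard _).trans (d.ncard_nb x))
    (fun x y h => (hcommon x y).trans (d.common_of_adj h hq))
    (fun x y h h' => (hcommon x y).trans (d.common_of_not_adj h h' hr.1.symm hr.2))
    (by omega)
  obtain ⟨h0, h6, -, h60⟩ := params_unique hl (d.inter_own hq) (d.inter_le q hp) hr' hm hl111 hsq
  exact ⟨(Set.ncard_eq_zero (Set.toFinite _)).1 h0,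
    fun p' hp' hp'q => (d.inter_const hq hp' hp'q hp hpq).trans h6, h60⟩

end EData

end CfsgLib.ClassK.M23Nse
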