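import Cfsg.Agent.Lib.ClassK.M23Nse.Geom.Orbits

/-!
The 253 conjugates of `E`: orbit lengths `1, 112, 140` of the normalizer.
-/

set_option autoImplicit false
set_option linter.unusedSectionVars false

namespace CfsgLib.ClassK.M23Nse

open Subgroup

universe u

variable {G : Type u} [Group G] [Finite G]

/-- The orbit of a point under a subgroup. -/
def orb {X : Type*} [MulAction G X] (S : Subgroup G) (x : X) : Set X := {y | ∃ g ∈ S, g • x = y}

theorem self_mem_orb {X : Type*} [MulAction G X] (S : Subgroup G) (x : X) : x ∈ orb S x :=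
  ⟨1, one_mem S, one_smul G x⟩

namespace EData

variable (d : EData G)

/-- The normalizer. -/
def H : Subgroup G := normalizer (d.E : Set G)

theorem E_le : d.E ≤ d.H := le_normalizer

theorem card_H : Nat.card d.H = 40320 := d.card_norm

theorem card_space : Nat.card (G ⧸ d.H) = 253 := by
  have := d.H.card_mul_index
  rw [d.card_H, d.card_G, Subgroup.index] at this
  omega

/-- The base point. -/
def a : G ⧸ d.H := ((1 : G) : G ⧸ d.H)

theorem smul_a (g : G) : g • d.a = ((g : G) : G ⧸ d.H) := by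
  show (((g * 1 : G)) : G ⧸ d.H) = _
  rw [mul_one]

theorem smul_a_iff {g : G} : g • d.a = d.a ↔ g ∈ d.H := by
  rw [d.smul_a, a, eq_comm, QuotientGroup.eq, inv_one, one_mul]

theorem stab_a : MulAction.stabilizer G d.a = d.H := Subgroup.ext fun _ => d.smul_a_iff

theorem exists_smul_a (q : G ⧸ d.H) : ∃ g : G, g • d.a = q :=
  ⟨q.out, by rw [d.smul_a]; exact QuotientGroup.out_eq' q⟩

/-- The conjugate of `E` belonging to a point. -/
noncomputable def Ec (q : G ⧸ d.H) : Subgroup G := d.E.map (MulAut.conj q.out).toMonoidHom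

theorem mem_Ec (g : G) {x : G} : x ∈ d.Ec (g • d.a) ↔ g⁻¹ * x * g ∈ d.E := by
  have h : (g • d.a).out⁻¹ * g ∈ d.H := by
    rw [← QuotientGroup.eq, QuotientGroup.out_eq', d.smul_a]
  set o := (g • d.a).out with ho
  have key : ∀ y, y ∈ d.E ↔ (o⁻¹ * g) * y * (o⁻¹ * g)⁻¹ ∈ d.E := fun y => mem_normalizer_iff.1 h y
  constructor
  · rintro ⟨e, he, rfl⟩
    rw [key]
    simpa [mul_assoc, ho] using he
  · intro hx
    refine ⟨o⁻¹ * g * (g⁻¹ * x * g) * (o⁻¹ * g)⁻¹, (key _).1 hx, ?_⟩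
    simp [ho, mul_assoc]

theorem Ec_a : d.Ec d.a = d.E := by
  ext x
  rw [← one_smul G d.a, d.mem_Ec]
  simp

theorem mem_Ec_smul (g : G) (q : G ⧸ d.H) {x : G} : x ∈ d.Ec (g • q) ↔ g⁻¹ * x * g ∈ d.Ec q := by
  obtain ⟨k, rfl⟩ := d.exists_smul_a q
  rw [← mul_smul, d.mem_Ec, d.mem_Ec, show (g * k)⁻¹ * x * (g * k) = k⁻¹ * (g⁻¹ * x * g) * k by group]

theorem card_Ec (q : G ⧸ d.H) : Nat.card (d.Ec q) = 16 := by
  rw [Ec, card_map_of_injective (MulAut.conj q.out).injective, d.card_E]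

theorem sq_Ec {q : G ⧸ d.H} {x : G} (hx : x ∈ d.Ec q) : x * x = 1 := by
  obtain ⟨e, he, rfl⟩ := hx
  rw [← map_mul, d.sq e he, map_one]

theorem orderOf_Ec {q : G ⧸ d.H} {x : G} (hx : x ∈ d.Ec q) (h1 : x ≠ 1) : orderOf x = 2 :=
  orderOf_eq_prime (by rw [pow_two]; exact d.sq_Ec hx) h1

theorem comm_Ec {q : G ⧸ d.H} {x y : G} (hx : x ∈ d.Ec q) (hy : y ∈ d.Ec q) : x * y = y * x := by
  have h1 := d.sq_Ec hx
  have h2 := d.sq_Ec hy
  have h3 := d.sq_Ec (mul_mem hx hy)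
  calc x * y = x * (x * y * (x * y)) * y := by rw [h3, mul_one]
    _ = (x * x) * (y * x) * (y * y) := by group
    _ = y * x := by rw [h1, h2, one_mul, mul_one]

theorem conj_stab {g : G} {q : G ⧸ d.H} {k : G} :
    k ∈ MulAction.stabilizer G (g • q) ↔ g⁻¹ * k * g ∈ MulAction.stabilizer G q := by
  simp only [MulAction.mem_stabilizer_iff, mul_smul, inv_smul_eq_iff]

theorem stab_normalizes {q : G ⧸ d.H} {k x : G} (hk : k ∈ MulAction.stabilizer G q) (hx : x ∈ d.Ec q) :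
    k * x * k⁻¹ ∈ d.Ec q := by
  rw [← (show k • q = q from hk), d.mem_Ec_smul]
  simpa [mul_assoc] using hx

theorem card_stab (q : G ⧸ d.H) : Nat.card (MulAction.stabilizer G q) = 40320 := by
  obtain ⟨g, rfl⟩ := d.exists_smul_a q
  rw [← d.card_H, show Nat.card d.H = Nat.card (MulAction.stabilizer G d.a) by rw [d.stab_a]]
  refine Nat.card_congr ⟨fun k => ⟨g⁻¹ * k * g, d.conj_stab.1 k.2⟩,
    fun k => ⟨g * k * g⁻¹, d.conj_stab.2 (by simpa [mul_assoc] using k.2)⟩,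
    fun k => Subtype.ext (by simp [mul_assoc]), fun k => Subtype.ext (by simp [mul_assoc])⟩

theorem Ec_le_stab (q : G ⧸ d.H) : d.Ec q ≤ MulAction.stabilizer G q := by
  obtain ⟨g, rfl⟩ := d.exists_smul_a q
  intro x hx
  rw [d.conj_stab, d.stab_a]
  exact d.E_le ((d.mem_Ec g).1 hx)

/-- Different conjugates meet trivially. -/
theorem ti_Ec {q q' : G ⧸ d.H} {x : G} (hx : x ∈ d.Ec q) (hx' : x ∈ d.Ec q') (h1 : x ≠ 1) : q = q' := by
  obtain ⟨g, rfl⟩ := d.exists_smul_a q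
  obtain ⟨k, rfl⟩ := d.exists_smul_a q'
  rw [d.mem_Ec] at hx hx'
  have h := d.ti (k⁻¹ * g) (g⁻¹ * x * g) hx (fun e => h1 (by
      have := congrArg (fun y => g * y * g⁻¹) e
      simpa [mul_assoc] using this)) (by simpa [mul_assoc] using hx')
  have h' := d.smul_a_iff.2 h
  rwa [mul_smul, inv_smul_eq_iff] at h' 

/-- The transitivity of `H` on `E` and the centraliser of an element of `E`. -/
theorem cent_le_stab {t : G} (ht : t ∈ d.E) (ht1 : t ≠ 1) : centralizer ({t} : Set G) ≤ d.H := fun g hg => by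
  refine d.ti g t ht ht1 ?_
  rwa [mem_centralizer_singleton_iff.1 hg, mul_inv_cancel_right]

theorem cent_le_stab' {q : G ⧸ d.H} {t : G} (ht : t ∈ d.Ec q) (ht1 : t ≠ 1) :
    centralizer ({t} : Set G) ≤ MulAction.stabilizer G q := fun g hg => by
  refine MulAction.mem_stabilizer_iff.2 (d.ti_Ec ?_ ht ht1)
  rw [d.mem_Ec_smul]
  rwa [mul_assoc, ← mem_centralizer_singleton_iff.1 hg, inv_mul_cancel_left]

theorem exists_conj {t t' : G} (ht : t ∈ d.E) (ht1 : t ≠ 1) (ht' : t' ∈ d.E) (ht'1 : t' ≠ 1) :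
    ∃ h ∈ d.H, h * t * h⁻¹ = t' := by
  refine exists_conj_eq (S := d.H) le_rfl ht ht1 (n := 15) (by rw [d.card_E]) ?_ ht' ht'1
  rw [inf_eq_right.2 (d.cent_le_stab ht ht1), d.cent_two t ht ht1, d.card_H]

theorem fix_Ec {q : G ⧸ d.H} {u : G} (hu : u ∈ MulAction.stabilizer G q) (ho : orderOf u = 2)
    (hn : u ∉ d.Ec q) : Nat.card (d.Ec q ⊓ centralizer ({u} : Set G) : Subgroup G) = 4 := by
  obtain ⟨g, rfl⟩ := d.exists_smul_a q
  rw [d.conj_stab, d.stab_a] at hu
  rw [d.mem_Ec] at hn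
  have h := d.fix_four (g⁻¹ * u * g) hu (by
    rw [← ho, show g⁻¹ * u * g = (MulAut.conj g⁻¹) u by simp, MulEquiv.orderOf_eq]) hn
  rw [← h]
  refine Nat.card_congr ⟨fun x => ⟨g⁻¹ * x * g, mem_inf.2 ⟨(d.mem_Ec g).1 (mem_inf.1 x.2).1,
      mem_centralizer_singleton_iff.2 ?_⟩⟩, fun x => ⟨g * x * g⁻¹, mem_inf.2 ⟨(d.mem_Ec g).2
      (by simpa [mul_assoc] using (mem_inf.1 x.2).1), mem_centralizer_singleton_iff.2 ?_⟩⟩,
    fun x => Subtype.ext (by simp [mul_assoc]), fun x => Subtype.ext (by simp [mul_assoc])⟩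
  · have := mem_centralizer_singleton_iff.1 (mem_inf.1 x.2).2
    calc g⁻¹ * x * g * (g⁻¹ * u * g) = g⁻¹ * (x * u) * g := by group
      _ = g⁻¹ * u * g * (g⁻¹ * x * g) := by rw [this]; group
  · have := mem_centralizer_singleton_iff.1 (mem_inf.1 x.2).2
    calc g * x * g⁻¹ * u = g * (x * (g⁻¹ * u * g)) * g⁻¹ := by group
      _ = u * (g * x * g⁻¹) := by rw [this]; group

/-- `E(q)` inside the stabiliser of `q'`. -/
noncomputable def U (q q' : G ⧸ d.H) : Subgroup G := d.Ec q ⊓ MulAction.stabilizer G q'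

theorem commute_U {q q' : G ⧸ d.H} (hne : q ≠ q') {u v : G} (hu : u ∈ d.U q q') (hv : v ∈ d.U q' q) :
    u * v = v * u := by
  rw [← commutatorElement_eq_one_iff_mul_comm, commutatorElement_def]
  by_contra h
  refine hne (d.ti_Ec (x := u * v * u⁻¹ * v⁻¹) ?_ ?_ h)
  · rw [show u * v * u⁻¹ * v⁻¹ = u * (v * u⁻¹ * v⁻¹) by group]
    exact mul_mem hu.1 (d.stab_normalizes hv.2 (inv_mem hu.1))
  · exact mul_mem (d.stab_normalizes hu.2 hv.1) (inv_mem hv.1)

theorem not_mem_Ec_of_U {q q' : G ⧸ d.H} (hne : q ≠ q') {u : G} (hu : u ∈ d.U q q') (h1 : u ≠ 1) :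
    u ∉ d.Ec q' := fun h => hne (d.ti_Ec hu.1 h h1)

/-- From one nontrivial element: the opposite intersection is the four-group of fixed elements. -/
theorem U_opp {q q' : G ⧸ d.H} (hne : q ≠ q') {u : G} (hu : u ∈ d.U q q') (h1 : u ≠ 1) :
    d.U q' q = d.Ec q' ⊓ centralizer ({u} : Set G) ∧ Nat.card (d.U q' q) = 4 := by
  have e : d.U q' q = d.Ec q' ⊓ centralizer ({u} : Set G) := le_antisymm
    (fun v hv => mem_inf.2 ⟨hv.1, mem_centralizer_singleton_iff.2 (d.commute_U hne hu hv).symm⟩)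
    (fun v hv => mem_inf.2 ⟨(mem_inf.1 hv).1, d.cent_le_stab' hu.1 h1 (mem_inf.1 hv).2⟩)
  exact ⟨e, e ▸ d.fix_Ec hu.2 (d.orderOf_Ec hu.1 h1) (d.not_mem_Ec_of_U hne hu h1)⟩

theorem exists_ne_one_of_card {S : Subgroup G} {n : ℕ} (h : Nat.card S = n) (hn : n ≠ 1) :
    ∃ u ∈ S, u ≠ 1 :=
  S.bot_or_exists_ne_one.resolve_left fun e => hn (by rw [← h, e, card_bot])

theorem card_U {q q' : G ⧸ d.H} (hne : q ≠ q') (h : d.U q q' ≠ ⊥) : Nat.card (d.U q q') = 4 := by
  obtain ⟨u, hu, h1⟩ := (d.U q q').bot_or_exists_ne_one.resolve_left h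
  obtain ⟨v, hv, hv1⟩ := exists_ne_one_of_card (d.U_opp hne hu h1).2 (by norm_num)
  exact (d.U_opp hne.symm hv hv1).2

theorem U_symm {q q' : G ⧸ d.H} (hne : q ≠ q') (h : d.U q q' = ⊥) : d.U q' q = ⊥ := by
  by_contra h'
  obtain ⟨u, hu, h1⟩ := (d.U q' q).bot_or_exists_ne_one.resolve_left h'
  have := (d.U_opp hne.symm hu h1).2
  rw [h, card_bot] at this
  norm_num at this

/-- Adjacency: the heptads meet in one point. -/
def Adj (q q' : G ⧸ d.H) : Prop := q ≠ q' ∧ d.U q q' = ⊥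

theorem adj_symm {q q' : G ⧸ d.H} (h : d.Adj q q') : d.Adj q' q := ⟨h.1.symm, d.U_symm h.1 h.2⟩

theorem adj_irrefl (q : G ⧸ d.H) : ¬ d.Adj q q := fun h => h.1 rfl

theorem adj_smul (g : G) {q q' : G ⧸ d.H} (h : d.Adj q q') : d.Adj (g • q) (g • q') := by
  refine ⟨fun e => h.1 (smul_left_cancel g e), (eq_bot_iff_forall _).2 fun x hx => ?_⟩
  have : g⁻¹ * x * g ∈ d.U q q' := mem_inf.2 ⟨(d.mem_Ec_smul g q).1 hx.1, d.conj_stab.1 hx.2⟩
  rw [h.2, mem_bot] at this
  simpa [mul_assoc] using congrArg (fun y => g * y * g⁻¹) this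

theorem adj_smul_iff (g : G) {q q' : G ⧸ d.H} : d.Adj (g • q) (g • q') ↔ d.Adj q q' :=
  ⟨fun h => by simpa using d.adj_smul g⁻¹ h, d.adj_smul g⟩

theorem orb_adj {q q' : G ⧸ d.H} (h : d.Adj q q') : (orb (d.Ec q) q').ncard = 16 := by
  have e := card_orbit_mul (d.Ec q) q'
  rw [show d.Ec q ⊓ MulAction.stabilizer G q' = d.U q q' from rfl, h.2, card_bot, mul_one, d.card_Ec] at e
  exact e

theorem orb_far {q q' : G ⧸ d.H} (hne : q ≠ q') (h : ¬ d.Adj q q') :
    (orb (d.Ec q) q').ncard = 4 := by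
  have e := card_orbit_mul (d.Ec q) q'
  rw [show d.Ec q ⊓ MulAction.stabilizer G q' = d.U q q' from rfl,
    d.card_U hne (fun e => h ⟨hne, e⟩), d.card_Ec] at e
  rw [orb]; omega

theorem exists_seven {t : G} (ht : t ∈ d.E) (ht1 : t ≠ 1) :
    ∃ x ∈ centralizer ({t} : Set G), orderOf x = 7 := by
  haveI : Fact (Nat.Prime 7) := ⟨by norm_num⟩
  obtain ⟨⟨x, hx⟩, ho⟩ := exists_prime_orderOf_dvd_card' (G := centralizer ({t} : Set G)) 7
    (by rw [d.cent_two t ht ht1]; norm_num)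
  exact ⟨x, hx, by rwa [orderOf_mk] at ho⟩

theorem invol_unique (d : EData G) {x : G} (hx : orderOf x = 7) {t t' : G} (ht : orderOf t = 2) (ht' : orderOf t' = 2)
    (h : t * x = x * t) (h' : t' * x = x * t') : t = t' := by
  set C := centralizer ({x} : Set G)
  have hP : (zpowers x).subgroupOf C = (zpowers x).subgroupOf C := rfl
  have hxC : zpowers x ≤ C := zpowers_le.2 (mem_centralizer_singleton_iff.2 rfl)
  have hi : (zpowers x).relIndex C = 2 := by
    have := relIndex_mul_relIndex ⊥ (zpowers x) C bot_le hxC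
    rw [relIndex_bot_left, relIndex_bot_left, Nat.card_zpowers, hx, d.cent_seven x hx] at this
    omega
  have hm : t * t' ∈ zpowers x := by
    have := (mul_mem_iff_of_index_two (H := (zpowers x).subgroupOf C) hi
      (a := ⟨t, mem_centralizer_singleton_iff.2 h⟩) (b := ⟨t', mem_centralizer_singleton_iff.2 h'⟩))
    rw [mem_subgroupOf, mem_subgroupOf, mem_subgroupOf] at this
    refine this.2 ?_
    have hn : ∀ s : G, orderOf s = 2 → s ∉ zpowers x := fun s hs hsx => by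
      have := orderOf_dvd_natCard (⟨s, hsx⟩ : zpowers x)
      rw [orderOf_mk, hs, Nat.card_zpowers, hx] at this
      norm_num at this
    exact iff_of_false (hn t ht) (hn t' ht')
  obtain ⟨i, hi'⟩ := mem_zpowers_iff.1 hm
  have e1 : t * t = 1 := by rw [← pow_two, ← ht, pow_orderOf_eq_one]
  have e2 : t' * t' = 1 := by rw [← pow_two, ← ht', pow_orderOf_eq_one]
  have hc : Commute t (x ^ i) := Commute.zpow_right h i
  have ht'e : t' = t * x ^ i := by rw [hi', ← mul_assoc, e1, one_mul]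
  have h2i : x ^ (i + i) = 1 := by
    have : t' * t' = (t * t) * (x ^ i * x ^ i) := by
      rw [ht'e, mul_assoc, ← mul_assoc (x ^ i) t, ← hc.eq]; group
    rw [e2, e1, one_mul, ← zpow_add] at this
    exact this.symm
  have h7 : x ^ i = 1 := by
    rw [← orderOf_dvd_iff_zpow_eq_one, hx] at h2i ⊢
    omega
  rw [ht'e, h7, mul_one]

/-- An element of order seven centralises an element of each normalised conjugate. -/
theorem exists_cent_seven {x : G} (hx : orderOf x = 7) {q : G ⧸ d.H} (hq : x • q = q) :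
    ∃ t ∈ d.Ec q, orderOf t = 2 ∧ t * x = x * t := by
  haveI : Fact (Nat.Prime 7) := ⟨by norm_num⟩
  have h := card_modEq_cent hx (S := d.Ec q) (mem_normalizer_iff.2 fun y =>
    ⟨fun hy => d.stab_normalizes hq hy, fun hy => by
      have := d.stab_normalizes (inv_mem (show x ∈ MulAction.stabilizer G q from hq)) hy
      simpa [mul_assoc] using this⟩)
  rw [d.card_Ec] at h
  obtain ⟨t, ht, ht1⟩ := exists_ne_one_of_card (S := d.Ec q ⊓ centralizer ({x} : Set G)) rfl (by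
    intro e; rw [e] at h; exact absurd h (by decide))
  exact ⟨t, (mem_inf.1 ht).1, d.orderOf_Ec (mem_inf.1 ht).1 ht1,
    mem_centralizer_singleton_iff.1 (mem_inf.1 ht).2⟩

/-- An element of order seven fixes one point only. -/
theorem fixed_seven {x : G} (hx : orderOf x = 7) (hxa : x • d.a = d.a) {q : G ⧸ d.H} (hq : x • q = q) :
    q = d.a := by
  obtain ⟨t, ht, hto, htx⟩ := d.exists_cent_seven hx hxa
  obtain ⟨t', ht', hto', htx'⟩ := d.exists_cent_seven hx hq
  have e := d.invol_unique hx hto hto' htx htx'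
  exact (d.ti_Ec ht (e ▸ ht') (fun e1 => by rw [e1, orderOf_one] at hto; norm_num at hto)).symm

/-- The neighbours of the base point. -/
def N1 : Set (G ⧸ d.H) := {q | d.Adj d.a q}

/-- The other points. -/
def N2 : Set (G ⧸ d.H) := {q | q ≠ d.a ∧ ¬ d.Adj d.a q}

theorem H_N1 {h : G} (hh : h ∈ d.H) {q : G ⧸ d.H} (hq : q ∈ d.N1) : h • q ∈ d.N1 := by
  have := d.adj_smul h hq
  rwa [d.smul_a_iff.2 hh] at this

theorem H_N2 {h : G} (hh : h ∈ d.H) {q : G ⧸ d.H} (hq : q ∈ d.N2) : h • q ∈ d.N2 := by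
  refine ⟨fun e => hq.1 (smul_left_cancel h (e.trans (d.smul_a_iff.2 hh).symm)), fun e => hq.2 ?_⟩
  rwa [← d.smul_a_iff.2 hh, d.adj_smul_iff] at e

theorem seven_dvd {x : G} (hx : orderOf x = 7) (hxH : x ∈ d.H) (A : Set (G ⧸ d.H)) (ha : d.a ∉ A)
    (hA : ∀ q ∈ A, x • q ∈ A) : 7 ∣ A.ncard := by
  haveI : Fact (Nat.Prime 7) := ⟨by norm_num⟩
  have h := ncard_modEq_fixed hx A hA
  rw [show {q | q ∈ A ∧ x • q = q} = ∅ from Set.eq_empty_of_forall_notMem fun q hq =>
    ha (d.fixed_seven hx (d.smul_a_iff.2 hxH) hq.2 ▸ hq.1), Set.ncard_empty] at h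
  exact Nat.modEq_zero_iff_dvd.1 h

/-- The fixed far points of an element of `E`. -/
def Fix (t : G) : Set (G ⧸ d.H) := {q | q ∈ d.N2 ∧ t • q = q}

theorem ncard_Fix_conj {t t' : G} (ht : t ∈ d.E) (ht1 : t ≠ 1) (ht' : t' ∈ d.E) (ht'1 : t' ≠ 1) :
    (d.Fix t').ncard = (d.Fix t).ncard := by
  obtain ⟨h, hh, rfl⟩ := d.exists_conj ht ht1 ht' ht'1
  rw [show d.Fix (h * t * h⁻¹) = (h • ·) '' d.Fix t from ?_,
    Set.ncard_image_of_injective _ (MulAction.injective h)]
  ext q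
  constructor
  · rintro ⟨hq, he⟩
    refine ⟨h⁻¹ • q, ⟨d.H_N2 (inv_mem hh) hq, ?_⟩, smul_inv_smul h q⟩
    rw [mul_smul, mul_smul, smul_eq_iff_eq_inv_smul] at he
    exact he
  · rintro ⟨q, ⟨hq, he⟩, rfl⟩
    refine ⟨d.H_N2 hh hq, ?_⟩
    show (h * t * h⁻¹) • h • q = h • q
    rw [mul_smul, inv_smul_smul, mul_smul, he]

theorem ncard_Fix_mul {t : G} (ht : t ∈ d.E) (ht1 : t ≠ 1) :
    15 * (d.Fix t).ncard = 3 * d.N2.ncard := by
  classical
  haveI := Fintype.ofFinite G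
  haveI := Fintype.ofFinite (G ⧸ d.H)
  set T := (d.E : Set G).toFinset.erase 1 with hT
  have hTc : T.card = 15 := by
    rw [hT, Finset.card_erase_of_mem (by simp), Set.toFinset_card, ← Nat.card_eq_fintype_card,
      SetLike.coe_sort_coe, d.card_E]
  have h := Finset.sum_card_bipartiteAbove_eq_sum_card_bipartiteBelow (s := T) (t := d.N2.toFinset)
    (fun (s : G) (q : G ⧸ d.H) => s • q = q)
  rw [Finset.sum_congr rfl (fun s hs => ?_ : ∀ s ∈ T, _ = (d.Fix t).ncard),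
    Finset.sum_congr rfl (fun q hq => ?_ : ∀ q ∈ d.N2.toFinset, _ = 3), Finset.sum_const,
    Finset.sum_const, hTc, smul_eq_mul, smul_eq_mul, ← Set.ncard_eq_toFinset_card'] at h
  · omega
  · rw [Set.mem_toFinset] at hq
    have hU := d.card_U hq.1.symm (fun e => hq.2 ⟨hq.1.symm, e⟩)
    rw [← Nat.card_coe_set_eq, Nat.card_eq_fintype_card, ← Set.toFinset_card] at *
    have e : T.bipartiteBelow (fun (s : G) (q : G ⧸ d.H) => s • q = q) q =
        (d.U d.a q : Set G).toFinset.erase 1 := by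
      ext s
      simp only [Finset.bipartiteBelow, Finset.mem_filter, hT, Finset.mem_erase, Set.mem_toFinset,
        SetLike.mem_coe, U, mem_inf, d.Ec_a, MulAction.mem_stabilizer_iff]
      tauto
    rw [e, Finset.card_erase_of_mem (by simp), Set.toFinset_card, ← Nat.card_eq_fintype_card,
      SetLike.coe_sort_coe, d.card_U hq.1.symm (fun e => hq.2 ⟨hq.1.symm, e⟩)]
  · rw [hT, Finset.mem_erase, Set.mem_toFinset] at hs
    rw [← d.ncard_Fix_conj ht ht1 hs.2 hs.1, ← Set.ncard_coe_finset]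
    congr 1
    ext q
    simp only [Fix, Finset.bipartiteAbove, Finset.coe_filter, Set.mem_toFinset]

theorem exists_E : ∃ t ∈ d.E, t ≠ 1 := exists_ne_one_of_card d.card_E (by norm_num)

theorem ncard_union : d.N1.ncard + d.N2.ncard = 252 := by
  have hu : d.N1 ∪ d.N2 = {d.a}ᶜ := by
    ext q
    simp only [N1, N2, Set.mem_union, Set.mem_ofPred_eq, Set.mem_compl_iff, Set.mem_singleton_iff]
    exact ⟨fun h => h.elim (fun h e => h.1 e.symm) (fun h => h.1), fun h => by tauto⟩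
  have hd : Disjoint d.N1 d.N2 := Set.disjoint_left.2 fun q h h' => h'.2 h
  have := Set.ncard_union_eq hd (Set.toFinite _) (Set.toFinite _)
  rw [hu, Set.ncard_compl, Set.ncard_singleton, d.card_space] at this
  omega

theorem ncard_N2 : d.N2.ncard = 140 := by
  obtain ⟨t, ht, ht1⟩ := d.exists_E
  obtain ⟨x, hxt, hx⟩ := d.exists_seven ht ht1
  have hxH := d.cent_le_stab ht ht1 hxt
  have h7 := d.seven_dvd hx hxH d.N2 (fun h => h.1 rfl) (fun q hq => d.H_N2 hxH hq)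
  have h4 : 4 ∣ d.N2.ncard := dvd_ncard_of_orbits d.E d.N2 (fun g hg q hq => d.H_N2 (d.E_le hg) hq)
    (fun q hq => by
      have := d.orb_far hq.1.symm hq.2
      rwa [d.Ec_a] at this)
  have h16 : 16 ∣ d.N1.ncard := dvd_ncard_of_orbits d.E d.N1 (fun g hg q hq => d.H_N1 (d.E_le hg) hq)
    (fun q hq => by
      have := d.orb_adj hq
      rwa [d.Ec_a] at this)
  have h5 := d.ncard_Fix_mul ht ht1
  have := d.ncard_union
  omega

theorem ncard_N1 : d.N1.ncard = 112 := by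
  have := d.ncard_union
  rw [d.ncard_N2] at this
  omega

theorem ncard_Fix {t : G} (ht : t ∈ d.E) (ht1 : t ≠ 1) : (d.Fix t).ncard = 28 := by
  have := d.ncard_Fix_mul ht ht1
  rw [d.ncard_N2] at this
  omega

end EData

end CfsgLib.ClassK.M23Nse
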