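import Mathlib
import Cfsg.Prelude.Def_Sporadic_a

/-!
Points from heptads: a graph on 253 vertices with seven classes of sixteen at each vertex carries a
Steiner system `S(4, 7, 23)`, the points being certain 77-sets of vertices.
-/

set_option autoImplicit false

namespace CfsgLib.ClassK.M23Nse

open Finset
open scoped Classical

/-- Two vertices are adjacent when the heptads meet in one point; the classes at a vertex are the
seven points of the heptad. -/
structure Heptads (V : Type*) [Fintype V] where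
  A : V → V → Prop
  cls : V → Finset (Finset V)
  symm : ∀ x y, A x y → A y x
  irrefl : ∀ x, ¬ A x x
  card_V : Fintype.card V = 253
  cls_card : ∀ b, (cls b).card = 7
  size : ∀ b, ∀ c ∈ cls b, c.card = 16
  cover : ∀ b x, A b x ↔ ∃ c ∈ cls b, x ∈ c
  disj : ∀ b, ∀ c ∈ cls b, ∀ c' ∈ cls b, ∀ x, x ∈ c → x ∈ c' → c = c'
  coclique : ∀ b, ∀ c ∈ cls b, ∀ x ∈ c, ∀ y ∈ c, ¬ A x y
  cross : ∀ b, ∀ c ∈ cls b, ∀ c' ∈ cls b, c ≠ c' → ∀ x ∈ c, (c'.filter (A x)).card = 6
  mu : ∀ x y, x ≠ y → ¬ A x y → (univ.filter fun z => A x z ∧ A y z).card = 60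
  far : ∀ b y, y ≠ b → ¬ A b y → ∀ c ∈ cls b,
    (c.filter (A y)).card = 4 ∨ (c.filter (A y)).card = 12
  link : ∀ b, ∀ c ∈ cls b, ∀ x ∈ c, ∀ c' ∈ cls x, b ∈ c' → ∀ y ∈ c', y ≠ b →
    (c.filter (A y)).card = 4

namespace Heptads

variable {V : Type*} [Fintype V] (h : Heptads V)

theorem nbrs (b : V) : (univ.filter fun z => h.A b z) = (h.cls b).biUnion id := by
  ext z
  rw [mem_filter, mem_biUnion]
  exact ⟨fun hz => (h.cover b z).1 hz.2, fun hz => ⟨mem_univ _, (h.cover b z).2 hz⟩⟩

theorem disjoint_cls (b : V) : ((h.cls b : Finset (Finset V)) : Set (Finset V)).PairwiseDisjoint id :=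
  fun c hc c' hc' hne => disjoint_left.2 fun x hx hx' => hne (h.disj b c hc c' hc' x hx hx')

/-- The number of common neighbours by classes. -/
theorem card_common (b y : V) :
    (univ.filter fun z => h.A b z ∧ h.A y z).card = ∑ c ∈ h.cls b, (c.filter (h.A y)).card := by
  rw [show (univ.filter fun z => h.A b z ∧ h.A y z) =
      (univ.filter fun z => h.A b z).filter (h.A y) from (filter_filter _ _ _).symm, h.nbrs,
    filter_biUnion, card_biUnion]
  · rfl
  · exact fun c hc c' hc' hne => (h.disjoint_cls b hc hc' hne).mono (filter_subset _ _) (filter_subset _ _)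

theorem deg (b : V) : (univ.filter fun z => h.A b z).card = 112 := by
  rw [h.nbrs, card_biUnion (h.disjoint_cls b)]
  simp only [id]
  rw [sum_congr rfl (fun c hc => h.size b c hc),
    sum_const, h.cls_card, smul_eq_mul]

theorem lam {b x : V} (hx : h.A b x) : (univ.filter fun z => h.A b z ∧ h.A x z).card = 36 := by
  obtain ⟨c, hc, hxc⟩ := (h.cover b x).1 hx
  rw [h.card_common, ← add_sum_erase _ _ hc,
    show c.filter (h.A x) = ∅ from filter_eq_empty_iff.2 fun y hy => h.coclique b c hc x hxc y hy,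
    card_empty, zero_add, sum_congr rfl (fun c' hc' => h.cross b c hc c' (mem_of_mem_erase hc')
      (ne_of_mem_erase hc').symm x hxc), sum_const, card_erase_of_mem hc, h.cls_card, smul_eq_mul]

/-- The scaled Gram matrix. -/
noncomputable def M (x y : V) : ℤ := if x = y then 112 else if h.A x y then -26 else 20

theorem M_comm (x y : V) : h.M x y = h.M y x := by
  unfold M
  by_cases e : x = y
  · subst e; rfl
  · by_cases a : h.A x y
    · simp [e, Ne.symm e, a, h.symm _ _ a]
    · have a' : ¬ h.A y x := fun a' => a (h.symm _ _ a')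
      simp [e, Ne.symm e, a, a']

theorem M_eq (x y : V) :
    h.M x y = 20 + (if x = y then 92 else 0) - (if h.A x y then 46 else 0) := by
  unfold M
  by_cases e : x = y
  · subst e; simp [h.irrefl]
  · by_cases a : h.A x y <;> simp [e, a]

theorem M_sq (x y : V) : ∑ z, h.M x z * h.M z y = 1288 * h.M x y := by
  have hA : ∀ z, (if h.A z y then (46 : ℤ) else 0) = if h.A y z then 46 else 0 := fun z =>
    if_congr ⟨h.symm _ _, h.symm _ _⟩ rfl rfl
  have s1 : ∀ (x : V) (a : ℤ), ∑ z, (if h.A x z then a else 0) = 112 * a := fun x a => by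
    rw [← sum_filter, sum_const, h.deg, nsmul_eq_mul]; rfl
  have s2 : ∑ z, (if x = z then (92 : ℤ) else 0) * (if h.A y z then 46 else 0) =
      92 * if h.A y x then 46 else 0 := by
    rw [Finset.sum_eq_single x] <;> simp +contextual [eq_comm]
  have s3 : ∑ z, (if h.A x z then (46 : ℤ) else 0) * (if z = y then 92 else 0) =
      (if h.A x y then 46 else 0) * 92 := by
    rw [Finset.sum_eq_single y] <;> simp +contextual
  have s4 : ∑ z, (if x = z then (92 : ℤ) else 0) * (if z = y then 92 else 0) =
      if x = y then 8464 else 0 := by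
    rw [Finset.sum_eq_single x] <;> simp +contextual [eq_comm]
  have s5 : ∑ z, (if h.A x z then (46 : ℤ) else 0) * (if h.A y z then 46 else 0) =
      2116 * (univ.filter fun z => h.A x z ∧ h.A y z).card := by
    rw [mul_comm (2116 : ℤ), ← nsmul_eq_mul, ← sum_const, sum_filter]
    refine sum_congr rfl fun z _ => ?_
    by_cases a : h.A x z <;> by_cases a' : h.A y z <;> simp [a, a']
  have hn : ∀ a : ℤ, ∑ _z : V, a = 253 * a := fun a => by
    rw [sum_const, card_univ, h.card_V, nsmul_eq_mul]; rfl
  simp only [M_eq]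
  simp only [mul_add, add_mul, mul_sub, sub_mul, sum_add_distrib, sum_sub_distrib]
  simp only [← mul_sum, ← sum_mul, s2, s3, s4, s5, hn, s1, hA, Finset.sum_ite_eq, Finset.sum_ite_eq',
    mem_univ, if_true]
  by_cases e : x = y
  · subst e
    rw [show (univ.filter fun z => h.A x z ∧ h.A x z) = univ.filter (h.A x) by simp, h.deg]
    simp [h.irrefl]
  · by_cases a : h.A x y
    · rw [h.lam a]
      simp [e, a, h.symm _ _ a]
    · rw [h.mu x y e a]
      have a' : ¬ h.A y x := fun a' => a (h.symm _ _ a')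
      simp [e, a, a']

/-- The weight function of a vertex with one of its classes. -/
noncomputable def w (b : V) (c : Finset V) (z : V) : ℤ := ∑ x ∈ c, h.M x z + 6 * h.M b z

theorem sum_mul_w (x b : V) (c : Finset V) : ∑ z, h.M x z * h.w b c z = 1288 * h.w b c x := by
  simp only [w, mul_add, mul_sum, sum_add_distrib]
  congr 1
  · rw [sum_comm]
    refine sum_congr rfl fun y _ => ?_
    rw [sum_congr rfl (fun z _ => by rw [h.M_comm y z] : ∀ z ∈ univ, h.M x z * h.M y z = h.M x z * h.M z y),
      h.M_sq, h.M_comm x y]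
  · rw [sum_congr rfl (fun z _ => by rw [h.M_comm b z]; ring :
        ∀ z ∈ univ, h.M x z * (6 * h.M b z) = 6 * (h.M x z * h.M z b)),
      ← mul_sum, h.M_sq, h.M_comm x b]
    ring

/-- The scalar product of two weight functions. -/
theorem dot (b b' : V) (c c' : Finset V) :
    ∑ z, h.w b c z * h.w b' c' z = 1288 * (∑ x ∈ c, h.w b' c' x + 6 * h.w b' c' b) := by
  conv_lhs => enter [2, z, 1]; unfold w
  simp only [add_mul, sum_mul, sum_add_distrib]
  rw [sum_comm, sum_congr rfl (fun x _ => h.sum_mul_w x b' c'), mul_add, mul_sum]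
  congr 1
  rw [sum_congr rfl (fun z _ => mul_assoc 6 (h.M b z) (h.w b' c' z)), ← mul_sum, h.sum_mul_w]
  ring

theorem sum_M_class {c : Finset V} {z : V} (hz : z ∉ c) :
    ∑ x ∈ c, h.M x z = 20 * c.card - 46 * (c.filter (h.A z)).card := by
  have : ∀ x ∈ c, h.M x z = 20 - (if h.A z x then (46 : ℤ) else 0) := by
    intro x hx
    have e : z ≠ x := fun e => hz (e ▸ hx)
    rw [h.M_comm, h.M_eq]
    simp [e]
  rw [sum_congr rfl this, sum_sub_distrib, sum_const, ← sum_filter, sum_const, nsmul_eq_mul,
    nsmul_eq_mul]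
  ring

variable {b : V} {c : Finset V}

theorem not_mem_cls (hc : c ∈ h.cls b) : b ∉ c := fun hb => h.irrefl b ((h.cover b b).2 ⟨c, hc, hb⟩)

theorem w_base (hc : c ∈ h.cls b) : h.w b c b = 256 := by
  rw [w, h.sum_M_class (h.not_mem_cls hc), h.size b c hc,
    filter_true_of_mem (fun x hx => (h.cover b x).2 ⟨c, hc, hx⟩), h.size b c hc, M, if_pos rfl]
  norm_num

theorem w_mem (hc : c ∈ h.cls b) {z : V} (hz : z ∈ c) : h.w b c z = 256 := by
  have hbz : h.A b z := (h.cover b z).2 ⟨c, hc, hz⟩
  have hne : b ≠ z := fun e => h.irrefl b (e ▸ hbz)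
  rw [w, ← add_sum_erase _ _ hz, sum_congr rfl (fun x hx => ?_ : ∀ x ∈ c.erase z, h.M x z = 20),
    sum_const, card_erase_of_mem hz, h.size b c hc]
  · simp [M, hne, hbz]
  · have := h.coclique b c hc x (mem_of_mem_erase hx) z hz
    simp [M, ne_of_mem_erase hx, this]

theorem w_other (hc : c ∈ h.cls b) {c' : Finset V} (hc' : c' ∈ h.cls b) (hne : c' ≠ c) {z : V}
    (hz : z ∈ c') : h.w b c z = -112 := by
  have hzc : z ∉ c := fun e => hne (h.disj b c' hc' c hc z hz e)
  have hbz : h.A b z := (h.cover b z).2 ⟨c', hc', hz⟩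
  have hbne : b ≠ z := fun e => h.irrefl b (e ▸ hbz)
  rw [w, h.sum_M_class hzc, h.size b c hc, h.cross b c' hc' c hc hne z hz]
  simp [M, hbne, hbz]

theorem w_far (hc : c ∈ h.cls b) {z : V} (hzb : z ≠ b) (hz : ¬ h.A b z) :
    h.w b c z = 440 - 46 * (c.filter (h.A z)).card := by
  have hzc : z ∉ c := fun e => hz ((h.cover b z).2 ⟨c, hc, e⟩)
  rw [w, h.sum_M_class hzc, h.size b c hc]
  simp [M, Ne.symm hzb, hz]
  ring

theorem w_values (hc : c ∈ h.cls b) (z : V) : h.w b c z = 256 ∨ h.w b c z = -112 := by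
  by_cases hzb : z = b
  · subst hzb; exact Or.inl (h.w_base hc)
  by_cases hz : h.A b z
  · obtain ⟨c', hc', hzc'⟩ := (h.cover b z).1 hz
    by_cases e : c' = c
    · exact Or.inl (h.w_mem hc (e ▸ hzc'))
    · exact Or.inr (h.w_other hc hc' e hzc')
  · rcases h.far b z hzb hz c hc with e | e <;> rw [h.w_far hc hzb hz, e] <;> norm_num

theorem norm_w (hc : c ∈ h.cls b) : ∑ x ∈ c, h.w b c x + 6 * h.w b c b = 5632 := by
  rw [sum_congr rfl (fun x hx => h.w_mem hc hx), sum_const, h.size b c hc, h.w_base hc]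
  norm_num

/-- **Neighbouring flags give the same weight function.** -/
theorem w_eq (hc : c ∈ h.cls b) {x : V} (hx : x ∈ c) {c' : Finset V} (hc' : c' ∈ h.cls x)
    (hb : b ∈ c') : h.w b c = h.w x c' := by
  have key : ∀ {b : V} {c : Finset V} {x : V} {c' : Finset V}, c ∈ h.cls b → x ∈ c → c' ∈ h.cls x →
      b ∈ c' → ∑ y ∈ c, h.w x c' y + 6 * h.w x c' b = 5632 := by
    intro b c x c' hc hx hc' hb
    have : ∀ y ∈ c, h.w x c' y = 256 := by
      intro y hy
      by_cases e : y = x
      · subst e; exact h.w_base hc'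
      · have hxy : ¬ h.A x y := h.coclique b c hc x hx y hy
        rw [h.w_far hc' e hxy, h.link x c' hc' b hb c hc hx y hy e]
        norm_num
    rw [sum_congr rfl this, sum_const, h.size b c hc, h.w_mem hc' hb]
    norm_num
  have hsum : ∑ z, (h.w b c z - h.w x c' z) ^ 2 = 0 := by
    rw [sum_congr rfl (fun z _ => by ring : ∀ z ∈ univ, (h.w b c z - h.w x c' z) ^ 2 =
      h.w b c z * h.w b c z - 2 * (h.w b c z * h.w x c' z) + h.w x c' z * h.w x c' z),
      sum_add_distrib, sum_sub_distrib, ← mul_sum, h.dot, h.dot, h.dot, h.norm_w hc, h.norm_w hc',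
      key hc hx hc' hb]
    norm_num
  funext z
  have := (sum_eq_zero_iff_of_nonneg fun z _ => sq_nonneg (h.w b c z - h.w x c' z)).1 hsum z (mem_univ z)
  exact sub_eq_zero.1 (pow_eq_zero_iff two_ne_zero |>.1 this)

/-- The 77-set of a flag. -/
noncomputable def star (b : V) (c : Finset V) : Finset V := univ.filter fun z => h.w b c z = 256

theorem mem_star {b : V} {c : Finset V} {z : V} : z ∈ h.star b c ↔ h.w b c z = 256 := by
  simp [star]

/-- Every vertex of a star is the base of it. -/
theorem star_rebase (hc : c ∈ h.cls b) {z : V} (hz : z ∈ h.star b c) :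
    ∃ d ∈ h.cls z, h.star z d = h.star b c := by
  have near : ∀ {b : V} {c : Finset V}, c ∈ h.cls b → ∀ z ∈ h.star b c, h.A b z →
      ∃ d ∈ h.cls z, h.w z d = h.w b c := by
    intro b c hc z hz hbz
    obtain ⟨c₁, hc₁, hzc₁⟩ := (h.cover b z).1 hbz
    have e : c₁ = c := by
      by_contra e
      rw [mem_star, h.w_other hc hc₁ e hzc₁] at hz
      norm_num at hz
    subst e
    obtain ⟨d, hd, hbd⟩ := (h.cover z b).1 (h.symm _ _ hbz)
    exact ⟨d, hd, (h.w_eq hc hzc₁ hd hbd).symm⟩
  have done : ∀ d, h.w z d = h.w b c → h.star z d = h.star b c := fun d e => by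
    ext y; rw [mem_star, mem_star, e]
  by_cases hzb : z = b
  · exact ⟨c, hzb ▸ hc, done c (by rw [hzb])⟩
  by_cases hbz : h.A b z
  · obtain ⟨d, hd, e⟩ := near hc z hz hbz
    exact ⟨d, hd, done d e⟩
  have h4 : (c.filter (h.A z)).card = 4 := by
    rcases h.far b z hzb hbz c hc with e | e
    · exact e
    · rw [mem_star, h.w_far hc hzb hbz, e] at hz
      norm_num at hz
  obtain ⟨x, hx⟩ := card_pos.1 (by omega : 0 < (c.filter (h.A z)).card)
  rw [mem_filter] at hx
  obtain ⟨d', hd', hbd'⟩ := (h.cover x b).1 (h.symm _ _ ((h.cover b x).2 ⟨c, hc, hx.1⟩))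
  have e₁ := h.w_eq hc hx.1 hd' hbd'
  obtain ⟨d, hd, e⟩ := near hd' z (by rw [mem_star, ← e₁, ← mem_star]; exact hz) (h.symm _ _ hx.2)
  exact ⟨d, hd, done d (e.trans e₁.symm)⟩

theorem class_eq_filter (hc : c ∈ h.cls b) : (h.star b c).filter (h.A b) = c := by
  ext z
  rw [mem_filter, mem_star]
  constructor
  · rintro ⟨hw, hz⟩
    obtain ⟨c', hc', hzc'⟩ := (h.cover b z).1 hz
    by_contra e
    rw [h.w_other hc hc' (fun e' => e (e' ▸ hzc')) hzc'] at hw
    norm_num at hw
  · exact fun hz => ⟨h.w_mem hc hz, (h.cover b z).2 ⟨c, hc, hz⟩⟩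

theorem star_inj {c' : Finset V} (hc : c ∈ h.cls b) (hc' : c' ∈ h.cls b)
    (e : h.star b c = h.star b c') : c = c' := by
  rw [← h.class_eq_filter hc, e, h.class_eq_filter hc']

/-- The number of classes at `b` in which a far vertex has four neighbours. -/
theorem card_four {y : V} (hyb : y ≠ b) (hy : ¬ h.A b y) :
    ((h.cls b).filter fun c => (c.filter (h.A y)).card = 4).card = 3 := by
  have hsum := h.card_common b y
  rw [h.mu b y hyb.symm hy, ← sum_filter_add_sum_filter_not (h.cls b)
      (fun c => (c.filter (h.A y)).card = 4),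
    sum_congr rfl (fun c hc => (mem_filter.1 hc).2),
    sum_congr rfl (fun c hc => (h.far b y hyb hy c (mem_filter.1 hc).1).resolve_left (mem_filter.1 hc).2),
    sum_const, sum_const, smul_eq_mul, smul_eq_mul] at hsum
  have h7 := card_filter_add_card_filter_not (s := h.cls b) (fun c => (c.filter (h.A y)).card = 4)
  rw [h.cls_card] at h7
  omega

/-- A star has 77 vertices. -/
theorem card_star (hc : c ∈ h.cls b) : (h.star b c).card = 77 := by
  set F := univ.filter fun y => y ≠ b ∧ ¬ h.A b y with hF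
  have hFc : F.card = 140 := by
    have h1 := card_filter_add_card_filter_not (s := (univ : Finset V).erase b) (h.A b)
    rw [card_erase_of_mem (mem_univ b), card_univ, h.card_V,
      show ((univ : Finset V).erase b).filter (h.A b) = univ.filter (h.A b) by
        ext z; simp only [mem_filter, mem_erase, mem_univ, and_true, true_and]
        exact ⟨fun h' => h'.2, fun h' => ⟨fun e => h.irrefl b (e ▸ h'), h'⟩⟩, h.deg,
      show ((univ : Finset V).erase b).filter (fun a => ¬ h.A b a) = F by
        ext z; simp [hF]] at h1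
    omega
  -- edges between the class and the far vertices
  have hedge : ∑ y ∈ F, (c.filter (h.A y)).card = 1200 := by
    have h1 : ∀ x ∈ c, (F.filter fun y => h.A y x).card = 75 := by
      intro x hx
      have hbx := (h.cover b x).2 ⟨c, hc, hx⟩
      have h2 := card_filter_add_card_filter_not (s := univ.filter fun y => h.A x y) (h.A b)
      rw [h.deg, filter_filter, filter_filter,
        show (univ.filter fun a => h.A x a ∧ h.A b a) = univ.filter (fun z => h.A b z ∧ h.A x z) by
          ext z; simp [and_comm], h.lam hbx] at h2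
      have h3 : (univ.filter fun a => h.A x a ∧ ¬ h.A b a) = insert b (F.filter fun y => h.A y x) := by
        ext z
        simp only [mem_filter, mem_univ, true_and, mem_insert, hF]
        constructor
        · rintro ⟨hxz, hbz⟩
          by_cases e : z = b
          · exact Or.inl e
          · exact Or.inr ⟨⟨e, hbz⟩, h.symm _ _ hxz⟩
        · rintro (rfl | ⟨⟨-, hbz⟩, hzx⟩)
          · exact ⟨h.symm _ _ hbx, h.irrefl z⟩
          · exact ⟨h.symm _ _ hzx, hbz⟩
      rw [h3, card_insert_of_notMem (by simp [hF])] at h2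
      omega
    calc ∑ y ∈ F, (c.filter (h.A y)).card = ∑ y ∈ F, ∑ x ∈ c, if h.A y x then 1 else 0 := by
          refine sum_congr rfl fun y _ => ?_
          rw [card_filter]
      _ = ∑ x ∈ c, (F.filter fun y => h.A y x).card := by
          rw [sum_comm]
          refine sum_congr rfl fun x _ => ?_
          rw [card_filter]
      _ = 1200 := by rw [sum_congr rfl h1, sum_const, h.size b c hc]; rfl
  rw [← sum_filter_add_sum_filter_not F (fun y => (c.filter (h.A y)).card = 4),
    sum_congr rfl (fun y hy => (mem_filter.1 hy).2),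
    sum_congr rfl (fun y hy => (h.far b y (mem_filter.1 (mem_filter.1 hy).1).2.1
      (mem_filter.1 (mem_filter.1 hy).1).2.2 c hc).resolve_left (mem_filter.1 hy).2),
    sum_const, sum_const, smul_eq_mul, smul_eq_mul] at hedge
  have h140 := card_filter_add_card_filter_not (s := F) (fun y => (c.filter (h.A y)).card = 4)
  rw [hFc] at h140
  have e : h.star b c = insert b (c ∪ F.filter fun y => (c.filter (h.A y)).card = 4) := by
    ext z
    rw [mem_star, mem_insert, mem_union, mem_filter, hF, mem_filter]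
    by_cases hzb : z = b
    · subst hzb; simp [h.w_base hc]
    by_cases hz : h.A b z
    · obtain ⟨c', hc', hzc'⟩ := (h.cover b z).1 hz
      by_cases e : c' = c
      · subst e; simp [h.w_mem hc hzc', hzc']
      · have : z ∉ c := fun e' => e (h.disj b c' hc' c hc z hzc' e')
        simp [h.w_other hc hc' e hzc', hzb, hz, this]
    · have : z ∉ c := fun e' => hz ((h.cover b z).2 ⟨c, hc, e'⟩)
      rcases h.far b z hzb hz c hc with e | e <;> simp [h.w_far hc hzb hz, e, hzb, hz, this]
  rw [e, card_insert_of_notMem, card_union_of_disjoint, h.size b c hc]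
  · omega
  · refine disjoint_left.2 fun z hz hz' => ?_
    exact (mem_filter.1 (mem_filter.1 hz').1).2.2 ((h.cover b z).2 ⟨c, hc, hz⟩)
  · simp [hF, h.not_mem_cls hc]

end Heptads

end CfsgLib.ClassK.M23Nse
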