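import Cfsg.Agent.Lib.ClassK.M23Nse.Geom.Space

/-!
The normalizer is transitive on both suborbits, and the stabiliser of a neighbour is transitive on
its class and on the other six classes.
-/

set_option autoImplicit false
set_option linter.unusedSectionVars false

namespace CfsgLib.ClassK.M23Nse

open Subgroup
open scoped Pointwise

universe u

variable {G : Type u} [Group G] [Finite G]

theorem smul_mem_orb {X : Type*} [MulAction G X] {S : Subgroup G} {x y : X} {g : G} (hg : g ∈ S)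
    (hy : y ∈ orb S x) : g • y ∈ orb S x := by
  obtain ⟨k, hk, rfl⟩ := hy
  exact ⟨g * k, mul_mem hg hk, mul_smul g k x⟩

theorem orb_eq {X : Type*} [MulAction G X] {S : Subgroup G} {x y : X} (hy : y ∈ orb S x) :
    orb S y = orb S x := by
  obtain ⟨k, hk, rfl⟩ := hy
  ext z
  exact ⟨fun ⟨g, hg, e⟩ => ⟨g * k, mul_mem hg hk, by rw [mul_smul, e]⟩,
    fun ⟨g, hg, e⟩ => ⟨g * k⁻¹, mul_mem hg (inv_mem hk), by rw [mul_smul, inv_smul_smul, e]⟩⟩

theorem smul_orb {X : Type*} [MulAction G X] {S : Subgroup G} {g : G} (hg : g ∈ normalizer (S : Set G))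
    (x : X) : g • orb S x = orb S (g • x) := by
  ext z
  constructor
  · rintro ⟨y, ⟨k, hk, rfl⟩, rfl⟩
    exact ⟨g * k * g⁻¹, conj_mem_normalizer hg hk, by
      show (g * k * g⁻¹) • g • x = g • k • x
      rw [mul_smul, inv_smul_smul, mul_smul]⟩
  · rintro ⟨k, hk, rfl⟩
    refine ⟨(g⁻¹ * k * g) • x, ⟨g⁻¹ * k * g, ?_, rfl⟩, ?_⟩
    · simpa using conj_mem_normalizer (inv_mem hg) hk
    · show g • (g⁻¹ * k * g) • x = k • g • x
      rw [mul_smul, mul_smul, smul_inv_smul]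

namespace EData

variable (d : EData G)

theorem trans_N1 {q q' : G ⧸ d.H} (hq : q ∈ d.N1) (hq' : q' ∈ d.N1) : ∃ h ∈ d.H, h • q = q' := by
  obtain ⟨t, ht, ht1⟩ := d.exists_E
  obtain ⟨x, hxt, hx⟩ := d.exists_seven ht ht1
  have hxH := d.cent_le_stab ht ht1 hxt
  set A := orb d.H q with hA
  have hsub : A ⊆ d.N1 := by rintro _ ⟨h, hh, rfl⟩; exact d.H_N1 hh hq
  have h7 := d.seven_dvd hx hxH A (fun h => (hsub h).1 rfl) (fun p hp => smul_mem_orb hxH hp)
  have h16 : 16 ∣ A.ncard := dvd_ncard_of_orbits d.E A (fun g hg p hp => smul_mem_orb (d.E_le hg) hp)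
    (fun p hp => by
      have := d.orb_adj (hsub hp)
      rwa [d.Ec_a] at this)
  have hpos : 0 < A.ncard := (Set.ncard_pos (Set.toFinite _)).2 ⟨q, self_mem_orb _ _⟩
  have hle := Set.ncard_le_ncard hsub (Set.toFinite _)
  rw [d.ncard_N1] at hle
  have : A = d.N1 := Set.eq_of_subset_of_ncard_le hsub (by rw [d.ncard_N1]; omega) (Set.toFinite _)
  exact this.ge hq'

theorem trans_Fix {t : G} (ht : t ∈ d.E) (ht1 : t ≠ 1) {q q' : G ⧸ d.H} (hq : q ∈ d.Fix t)
    (hq' : q' ∈ d.Fix t) : ∃ h ∈ centralizer ({t} : Set G), h • q = q' := by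
  obtain ⟨x, hxt, hx⟩ := d.exists_seven ht ht1
  set A := orb (centralizer ({t} : Set G)) q with hA
  have hsub : A ⊆ d.Fix t := by
    rintro _ ⟨h, hh, rfl⟩
    refine ⟨d.H_N2 (d.cent_le_stab ht ht1 hh) hq.1, ?_⟩
    rw [← mul_smul, ← mem_centralizer_singleton_iff.1 hh, mul_smul, hq.2]
  have hEC : d.E ≤ centralizer ({t} : Set G) := fun e he => mem_centralizer_singleton_iff.2
    (d.comm_Ec (q := d.a) (d.Ec_a.symm ▸ he) (d.Ec_a.symm ▸ ht))
  have h7 := d.seven_dvd hx (d.cent_le_stab ht ht1 hxt) A (fun h => (hsub h).1.1 rfl)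
    (fun p hp => smul_mem_orb hxt hp)
  have h4 : 4 ∣ A.ncard := dvd_ncard_of_orbits d.E A (fun g hg p hp => smul_mem_orb (hEC hg) hp)
    (fun p hp => by
      have := d.orb_far (hsub hp).1.1.symm (hsub hp).1.2
      rwa [d.Ec_a] at this)
  have hpos : 0 < A.ncard := (Set.ncard_pos (Set.toFinite _)).2 ⟨q, self_mem_orb _ _⟩
  have hle := Set.ncard_le_ncard hsub (Set.toFinite _)
  rw [d.ncard_Fix ht ht1] at hle
  have : A = d.Fix t :=
    Set.eq_of_subset_of_ncard_le hsub (by rw [d.ncard_Fix ht ht1]; omega) (Set.toFinite _)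
  exact this.ge hq'

theorem exists_fix {q : G ⧸ d.H} (hq : q ∈ d.N2) : ∃ t ∈ d.E, t ≠ 1 ∧ q ∈ d.Fix t := by
  obtain ⟨t, ht, ht1⟩ := exists_ne_one_of_card (d.card_U hq.1.symm fun e => hq.2 ⟨hq.1.symm, e⟩)
    (by norm_num)
  exact ⟨t, d.Ec_a ▸ (mem_inf.1 ht).1, ht1, hq, (mem_inf.1 ht).2⟩

theorem trans_N2 {q q' : G ⧸ d.H} (hq : q ∈ d.N2) (hq' : q' ∈ d.N2) : ∃ h ∈ d.H, h • q = q' := by
  obtain ⟨t, ht, ht1, hf⟩ := d.exists_fix hq
  obtain ⟨t', ht', ht'1, hf'⟩ := d.exists_fix hq'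
  obtain ⟨h, hh, e⟩ := d.exists_conj ht ht1 ht' ht'1
  have hf2 : h • q ∈ d.Fix t' := by
    refine ⟨d.H_N2 hh hq, ?_⟩
    rw [← e, ← mul_smul, show h * t * h⁻¹ * h = h * t by group, mul_smul, hf.2]
  obtain ⟨k, hk, e'⟩ := d.trans_Fix ht' ht'1 hf2 hf'
  exact ⟨k * h, mul_mem (d.cent_le_stab ht' ht'1 hk) hh, by rw [mul_smul, e']⟩

/-- The stabiliser of a pair. -/
noncomputable def Stab2 (q : G ⧸ d.H) : Subgroup G := d.H ⊓ MulAction.stabilizer G q

theorem card_Stab2_near {q : G ⧸ d.H} (hq : q ∈ d.N1) : Nat.card (d.Stab2 q) = 360 := by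
  have h := card_orbit_mul d.H q
  rw [show {y | ∃ g ∈ d.H, g • q = y} = d.N1 from Set.ext fun y =>
    ⟨fun ⟨g, hg, e⟩ => e ▸ d.H_N1 hg hq, fun hy => d.trans_N1 hq hy⟩, d.ncard_N1, d.card_H] at h
  rw [Stab2]; omega

theorem card_Stab2_far {q : G ⧸ d.H} (hq : q ∈ d.N2) : Nat.card (d.Stab2 q) = 288 := by
  have h := card_orbit_mul d.H q
  rw [show {y | ∃ g ∈ d.H, g • q = y} = d.N2 from Set.ext fun y =>
    ⟨fun ⟨g, hg, e⟩ => e ▸ d.H_N2 hg hq, fun hy => d.trans_N2 hq hy⟩, d.ncard_N2, d.card_H] at h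
  rw [Stab2]; omega

/-- The class of a neighbour. -/
abbrev cl (q : G ⧸ d.H) : Set (G ⧸ d.H) := orb d.E q

theorem ncard_cl {q : G ⧸ d.H} (hq : q ∈ d.N1) : (d.cl q).ncard = 16 := by
  have := d.orb_adj hq
  rwa [d.Ec_a] at this

theorem cl_subset {q : G ⧸ d.H} (hq : q ∈ d.N1) : d.cl q ⊆ d.N1 := by
  rintro _ ⟨e, he, rfl⟩; exact d.H_N1 (d.E_le he) hq

theorem free_cl {q : G ⧸ d.H} (hq : q ∈ d.N1) {e : G} (he : e ∈ d.E) (h : e • q = q) : e = 1 := by
  have hm : e ∈ d.U d.a q := mem_inf.2 ⟨d.Ec_a.symm ▸ he, h⟩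
  rw [hq.2, mem_bot] at hm
  exact hm

/-- The stabiliser of a neighbour is transitive on the rest of its class. -/
theorem trans_cl {q p p' : G ⧸ d.H} (hq : q ∈ d.N1) (hp : p ∈ d.cl q) (hpq : p ≠ q)
    (hp' : p' ∈ d.cl q) (hp'q : p' ≠ q) : ∃ s ∈ d.Stab2 q, s • p = p' := by
  obtain ⟨e, he, rfl⟩ := hp
  obtain ⟨e', he', rfl⟩ := hp'
  have he1 : e ≠ 1 := fun h => hpq (by rw [h, one_smul])
  have he'1 : e' ≠ 1 := fun h => hp'q (by rw [h, one_smul])
  have hc : Nat.card (d.Stab2 q ⊓ centralizer ({e} : Set G) : Subgroup G) ∣ 24 := by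
    have h1 := card_dvd_of_le (inf_le_left : d.Stab2 q ⊓ centralizer ({e} : Set G) ≤ d.Stab2 q)
    have h2 := card_dvd_of_le (inf_le_right : d.Stab2 q ⊓ centralizer ({e} : Set G) ≤ _)
    rw [d.card_Stab2_near hq] at h1
    rw [d.cent_two e he he1] at h2
    have := Nat.dvd_gcd h1 h2
    norm_num at this
    exact this
  obtain ⟨s, hs, rfl⟩ := exists_conj_eq (S := d.Stab2 q) inf_le_left he he1 (n := 15) (by rw [d.card_E])
    (by
      rw [d.card_Stab2_near hq]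
      have := Nat.le_of_dvd (by norm_num) hc
      omega) he' he'1
  refine ⟨s, hs, ?_⟩
  have hsq : s⁻¹ • q = q := (inv_mem hs : s⁻¹ ∈ d.Stab2 q).2
  rw [mul_smul, hsq, mul_smul]

/-- The stabiliser of a class. -/
noncomputable def Kc (q : G ⧸ d.H) : Subgroup G := d.H ⊓ MulAction.stabilizer G (d.cl q)

theorem mem_Kc {q : G ⧸ d.H} {h : G} (hh : h ∈ d.H) : h ∈ d.Kc q ↔ h • q ∈ d.cl q := by
  rw [Kc, mem_inf, MulAction.mem_stabilizer_iff, cl, smul_orb (show h ∈ normalizer (d.E : Set G) from hh)]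
  exact ⟨fun h' => h'.2 ▸ self_mem_orb _ _, fun h' => ⟨hh, orb_eq h'⟩⟩

theorem E_le_Kc (q : G ⧸ d.H) : d.E ≤ d.Kc q := fun e he =>
  (d.mem_Kc (d.E_le he)).2 ⟨e, he, rfl⟩

theorem Stab2_le_Kc (q : G ⧸ d.H) : d.Stab2 q ≤ d.Kc q := fun s hs =>
  (d.mem_Kc hs.1).2 (by rw [show s • q = q from hs.2]; exact self_mem_orb _ _)

theorem card_Kc {q : G ⧸ d.H} (hq : q ∈ d.N1) : Nat.card (d.Kc q) = 5760 := by
  have h := card_orbit_mul (d.Kc q) q
  rw [show {y | ∃ g ∈ d.Kc q, g • q = y} = d.cl q from Set.ext fun y =>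
    ⟨fun ⟨g, hg, e⟩ => e ▸ (d.mem_Kc hg.1).1 hg, fun ⟨g, hg, e⟩ => ⟨g, d.E_le_Kc q hg, e⟩⟩,
    d.ncard_cl hq, show (d.Kc q ⊓ MulAction.stabilizer G q) = d.Stab2 q from
      le_antisymm (inf_le_inf_right _ inf_le_left) (le_inf (d.Stab2_le_Kc q) inf_le_right),
    d.card_Stab2_near hq] at h
  omega

theorem Kc_smul {q : G ⧸ d.H} {h : G} (hh : h ∈ d.H) :
    d.Kc (h • q) = (d.Kc q).map (MulAut.conj h).toMonoidHom := by
  have e : d.cl (h • q) = h • d.cl q := (smul_orb (show h ∈ normalizer (d.E : Set G) from hh) q).symm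
  ext g
  rw [mem_map_equiv, Kc, Kc, mem_inf, mem_inf, e]
  simp only [MulAut.conj_symm_apply, MulAction.mem_stabilizer_iff, mul_smul, inv_smul_eq_iff]
  refine and_congr ⟨fun hg => mul_mem (mul_mem (inv_mem hh) hg) hh, fun hg => ?_⟩ Iff.rfl
  simpa [mul_assoc] using mul_mem (mul_mem hh hg) (inv_mem hh)

theorem sylow_five {x y : G} (hx : orderOf x = 5) (hy : orderOf y = 5) (hxH : x ∈ d.H) (hyH : y ∈ d.H) :
    ∃ h ∈ d.H, h * y * h⁻¹ ∈ zpowers x := by
  haveI : Fact (Nat.Prime 5) := ⟨by norm_num⟩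
  have hfac : Nat.factorization (Nat.card d.H) 5 = 1 := by
    rw [d.card_H, show (40320 : ℕ) = 5 * 8064 by norm_num, Nat.factorization_mul (by norm_num) (by norm_num),
      Finsupp.add_apply, Nat.Prime.factorization_self (by norm_num),
      Nat.factorization_eq_zero_of_not_dvd (by norm_num)]
  let P : Sylow 5 d.H := Sylow.ofCard (zpowers ⟨x, hxH⟩)
    (by rw [Nat.card_zpowers, orderOf_mk, hx, hfac]; norm_num)
  let Q : Sylow 5 d.H := Sylow.ofCard (zpowers ⟨y, hyH⟩)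
    (by rw [Nat.card_zpowers, orderOf_mk, hy, hfac]; norm_num)
  obtain ⟨g, hg⟩ := MulAction.exists_smul_eq d.H Q P
  refine ⟨g, g.2, ?_⟩
  have h1 : g * ⟨y, hyH⟩ * g⁻¹ ∈ zpowers (⟨x, hxH⟩ : d.H) := by
    have h2 : MulAut.conj g • (⟨y, hyH⟩ : d.H) ∈ ((g • Q : Sylow 5 d.H) : Subgroup d.H) :=
      Subgroup.smul_mem_pointwise_smul _ _ _ (mem_zpowers _)
    rw [hg] at h2
    simpa [MulAut.smul_def, P] using h2
  obtain ⟨i, hi⟩ := mem_zpowers_iff.1 h1
  exact mem_zpowers_iff.2 ⟨i, by simpa using congrArg Subtype.val hi⟩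

theorem five_fixed_dvd {x : G} (hx : orderOf x = 5) (hxa : x • d.a = d.a) :
    {q : G ⧸ d.H | x • q = q}.ncard ∣ 60 := by
  have hxH := d.smul_a_iff.1 hxa
  have h := card_orbit_mul (normalizer (zpowers x : Set G)) d.a
  rw [d.norm_five x hx] at h
  refine ⟨_, (h.symm.trans (congrArg (fun A : Set (G ⧸ d.H) => A.ncard * _) ?_))⟩
  ext q
  constructor
  · rintro ⟨g, hg, rfl⟩
    have h2 : g⁻¹ * x * g ∈ zpowers x := by
      simpa using conj_mem_normalizer (inv_mem hg) (mem_zpowers x)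
    have hz : zpowers x ≤ MulAction.stabilizer G d.a := zpowers_le.2 hxa
    have := hz h2
    rw [MulAction.mem_stabilizer_iff, mul_smul, mul_smul, inv_smul_eq_iff] at this
    exact this
  · intro hq
    obtain ⟨g, rfl⟩ := d.exists_smul_a q
    have hy : g⁻¹ * x * g ∈ d.H := by
      rw [← d.stab_a, MulAction.mem_stabilizer_iff, mul_smul, mul_smul, inv_smul_eq_iff]
      exact hq
    have hyo : orderOf (g⁻¹ * x * g) = 5 := by
      rw [show g⁻¹ * x * g = (MulAut.conj g⁻¹) x by simp, MulEquiv.orderOf_eq, hx]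
    obtain ⟨h', hh', hm⟩ := d.sylow_five hx hyo hxH hy
    refine ⟨g * h'⁻¹, ?_, by rw [mul_smul, d.smul_a_iff.2 (inv_mem hh')]⟩
    rw [← inv_mem_iff, mul_inv_rev, inv_inv, mem_normalizer_iff_map_conj_eq]
    refine eq_of_le_of_card_ge ?_ (card_map_of_injective (MulAut.conj _).injective).ge
    rw [MonoidHom.map_zpowers, zpowers_le]
    simpa [mul_assoc] using hm

theorem five_no_invol (d : EData G) {x : G} (hx : orderOf x = 5) {s : G} (hs : orderOf s = 2) : s * x ≠ x * s := by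
  intro h
  have := orderOf_dvd_natCard (⟨s, mem_centralizer_singleton_iff.2 h⟩ : centralizer ({x} : Set G))
  rw [orderOf_mk, hs, d.cent_five x hx] at this
  norm_num at this

/-- Distinct fixed points of an element of order five lie in distinct classes. -/
theorem five_cl {x : G} (hx : orderOf x = 5) (hxa : x • d.a = d.a) {q p : G ⧸ d.H} (hq : q ∈ d.N1)
    (hxq : x • q = q) (hp : p ∈ d.cl q) (hxp : x • p = p) : p = q := by
  obtain ⟨e, he, rfl⟩ := hp
  by_cases he1 : e = 1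
  · rw [he1, one_smul]
  exfalso
  refine d.five_no_invol hx (d.orderOf_Ec (q := d.a) (d.Ec_a.symm ▸ he) he1) ?_
  have hm : x * e * x⁻¹ ∈ d.E := conj_mem_normalizer (d.smul_a_iff.1 hxa) he
  have h1 : (e⁻¹ * (x * e * x⁻¹)) • q = q := by
    rw [mul_smul, mul_smul, mul_smul, inv_smul_eq_iff (g := x) |>.2 hxq.symm, hxp, inv_smul_smul]
  have := d.free_cl hq (mul_mem (inv_mem he) hm) h1
  rw [inv_mul_eq_one] at this
  conv_lhs => rw [this, inv_mul_cancel_right]

theorem five_no_far {x : G} (hx : orderOf x = 5) (hxa : x • d.a = d.a) {q : G ⧸ d.H} (hq : q ∈ d.N2) :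
    x • q ≠ q := by
  intro hxq
  haveI : Fact (Nat.Prime 5) := ⟨by norm_num⟩
  have hn : x ∈ normalizer (d.U d.a q : Set G) := by
    have key : ∀ y : G, y • d.a = d.a → y • q = q → ∀ u ∈ d.U d.a q, y * u * y⁻¹ ∈ d.U d.a q := by
      intro y hya hyq u hu
      have hys : y ∈ MulAction.stabilizer G q := hyq
      exact mem_inf.2 ⟨d.stab_normalizes hya (mem_inf.1 hu).1,
        mul_mem (mul_mem hys (mem_inf.1 hu).2) (inv_mem hys)⟩
    refine mem_normalizer_iff.2 fun u => ⟨fun hu => key x hxa hxq u hu, fun hu => ?_⟩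
    have := key x⁻¹ (inv_smul_eq_iff.2 hxa.symm) (inv_smul_eq_iff.2 hxq.symm) _ hu
    simpa [mul_assoc] using this
  have h := card_modEq_cent hx hn
  rw [d.card_U hq.1.symm fun e => hq.2 ⟨hq.1.symm, e⟩] at h
  obtain ⟨s, hs, hs1⟩ := exists_ne_one_of_card (S := d.U d.a q ⊓ centralizer ({x} : Set G)) rfl (by
    intro e; rw [e] at h; exact absurd h (by decide))
  exact d.five_no_invol hx (d.orderOf_Ec (mem_inf.1 (mem_inf.1 hs).1).1 hs1)
    (mem_centralizer_singleton_iff.1 (mem_inf.1 hs).2)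

/-- The classes of the fixed points of an element of order five cover sixteen points each. -/
theorem five_union {x : G} (hx : orderOf x = 5) (hxa : x • d.a = d.a) (A : Set (G ⧸ d.H))
    (hA : A ⊆ d.N1) :
    {y | ∃ q ∈ A, x • q = q ∧ y ∈ d.cl q}.ncard = 16 * {q | q ∈ A ∧ x • q = q}.ncard := by
  classical
  haveI := Fintype.ofFinite (G ⧸ d.H)
  set F := Finset.univ.filter (fun q => q ∈ A ∧ x • q = q) with hF
  have e1 : {y | ∃ q ∈ A, x • q = q ∧ y ∈ d.cl q} =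
      ↑(F.biUnion fun q => Finset.univ.filter fun y => y ∈ d.cl q) := by
    ext y; simp [hF, and_assoc]
  have e2 : {q | q ∈ A ∧ x • q = q} = ↑F := by ext q; simp [hF]
  rw [e1, e2, Set.ncard_coe_finset, Set.ncard_coe_finset, Finset.card_biUnion,
    Finset.sum_congr rfl (fun q hq => ?_ : ∀ q ∈ F, _ = 16), Finset.sum_const, smul_eq_mul, mul_comm]
  · rw [← d.ncard_cl (hA (Finset.mem_filter.1 hq).2.1), ← Set.ncard_coe_finset]
    congr 1; ext y; simp
  · intro q hq q' hq' hne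
    refine Finset.disjoint_left.2 fun y hy hy' => hne ?_
    rw [Finset.mem_filter] at hy hy'
    rw [Finset.mem_coe, hF, Finset.mem_filter] at hq hq'
    have : q' ∈ d.cl q := by
      rw [cl, ← orb_eq hy.2, orb_eq hy'.2]; exact self_mem_orb _ _
    exact (d.five_cl hx hxa (hA hq.2.1) hq.2.2 this hq'.2.2).symm

/-- An element of order five moves some class. -/
theorem five_moves {x : G} (hx : orderOf x = 5) (hxa : x • d.a = d.a) : ∃ q ∈ d.N1, x • q ∉ d.cl q := by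
  by_contra hcon
  push Not at hcon
  haveI : Fact (Nat.Prime 5) := ⟨by norm_num⟩
  have hxH := d.smul_a_iff.1 hxa
  have hall : ∀ y ∈ d.N1, ∃ q ∈ d.N1, x • q = q ∧ y ∈ d.cl q := by
    intro y hy
    have hA : ∀ p ∈ d.cl y, x • p ∈ d.cl y := by
      intro p hp
      have := Set.smul_mem_smul_set (a := x) hp
      rwa [cl, smul_orb (show x ∈ normalizer (d.E : Set G) from hxH), orb_eq (hcon y hy)] at this
    have h := ncard_modEq_fixed hx (d.cl y) hA
    rw [d.ncard_cl hy] at h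
    have hne : {p | p ∈ d.cl y ∧ x • p = p}.Nonempty := by
      rw [Set.nonempty_iff_ne_empty]
      intro e
      rw [e, Set.ncard_empty] at h
      exact absurd h (by decide)
    obtain ⟨p, hp, hxp⟩ := hne
    exact ⟨p, d.cl_subset hy hp, hxp, by rw [cl, orb_eq hp]; exact self_mem_orb _ _⟩
  have h7 : {q | q ∈ d.N1 ∧ x • q = q}.ncard = 7 := by
    have h := d.five_union hx hxa d.N1 subset_rfl
    rw [show {y | ∃ q ∈ d.N1, x • q = q ∧ y ∈ d.cl q} = d.N1 from Set.ext fun y =>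
      ⟨fun ⟨q, hq, _, hy⟩ => d.cl_subset hq hy, fun hy => hall y hy⟩, d.ncard_N1] at h
    omega
  have e : {q : G ⧸ d.H | x • q = q} = insert d.a {q | q ∈ d.N1 ∧ x • q = q} := by
    ext q
    constructor
    · intro hq
      by_cases hqa : q = d.a
      · exact Or.inl hqa
      refine Or.inr ⟨?_, hq⟩
      by_contra h1
      exact d.five_no_far hx hxa ⟨hqa, h1⟩ hq
    · rintro (rfl | h)
      · exact hxa
      · exact h.2
  have := d.five_fixed_dvd hx hxa
  rw [e, Set.ncard_insert_of_notMem (fun h => d.adj_irrefl _ h.1) (Set.toFinite _), h7] at this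
  norm_num at this

/-- The stabiliser of a neighbour permutes the other classes transitively. -/
theorem trans_classes {q p p' : G ⧸ d.H} (hq : q ∈ d.N1) (hp : p ∈ d.N1) (hpq : p ∉ d.cl q)
    (hp' : p' ∈ d.N1) (hp'q : p' ∉ d.cl q) : ∃ s ∈ d.Stab2 q, s • p ∈ d.cl p' := by
  haveI : Fact (Nat.Prime 5) := ⟨by norm_num⟩
  haveI : Fact (Nat.Prime 7) := ⟨by norm_num⟩
  obtain ⟨⟨x, hxS⟩, hxo⟩ := exists_prime_orderOf_dvd_card' (G := d.Stab2 q) 5
    (by rw [d.card_Stab2_near hq]; norm_num)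
  rw [orderOf_mk] at hxo
  have hxH : x ∈ d.H := hxS.1
  have hxa := d.smul_a_iff.2 hxH
  have hxq : x • q = q := hxS.2
  have hxK := d.Stab2_le_Kc q hxS
  obtain ⟨r, hr, hrx⟩ := d.five_moves hxo hxa
  have hrq : r ∉ d.cl q := fun h => hrx (by
    rw [cl, orb_eq h]
    have := Set.smul_mem_smul_set (a := x) h
    rwa [cl, smul_orb (show x ∈ normalizer (d.E : Set G) from hxH), hxq] at this)
  -- the orbit of the moved class
  set A := orb (d.Kc q) r with hA
  have hout : ∀ {y : G ⧸ d.H}, y ∉ d.cl q → ∀ k ∈ d.Kc q, k • y ∉ d.cl q := by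
    intro y hy k hk h
    have hk' : k⁻¹ • d.cl q = d.cl q := (inv_mem hk : k⁻¹ ∈ d.Kc q).2
    have := Set.smul_mem_smul_set (a := k⁻¹) h
    rw [inv_smul_smul, hk'] at this
    exact hy this
  have hsub : A ⊆ d.N1 \ d.cl q := by
    rintro _ ⟨k, hk, rfl⟩
    exact ⟨d.H_N1 hk.1 hr, hout hrq k hk⟩
  have hclA : ∀ y ∈ A, d.cl y ⊆ A := by
    rintro y hy _ ⟨e, he, rfl⟩
    exact smul_mem_orb (d.E_le_Kc q he) hy
  have hdiff : (d.N1 \ d.cl q).ncard = 96 := by
    rw [Set.ncard_sdiff (d.cl_subset hq) (Set.toFinite _), d.ncard_N1, d.ncard_cl hq]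
  have h16 : 16 ∣ A.ncard := dvd_ncard_of_orbits d.E A
    (fun g hg y hy => smul_mem_orb (d.E_le_Kc q hg) hy) (fun y hy => d.ncard_cl (hsub hy).1)
  have hmod := ncard_modEq_fixed hxo A (fun y hy => smul_mem_orb hxK hy)
  have hfix : 16 * {y | y ∈ A ∧ x • y = y}.ncard + 16 ≤ A.ncard := by
    rw [← d.five_union hxo hxa A (fun y hy => (hsub hy).1), ← d.ncard_cl hr,
      ← Set.ncard_union_eq ?_ (Set.toFinite _) (Set.toFinite _)]
    · refine Set.ncard_le_ncard (Set.union_subset ?_ (hclA r (self_mem_orb _ _))) (Set.toFinite _)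
      rintro y ⟨y', hy', -, hy⟩
      exact hclA y' hy' hy
    · refine Set.disjoint_left.2 ?_
      rintro y ⟨y', hy', hxy', hy⟩ hyr
      have e : d.cl r = d.cl y' := by rw [cl, cl, ← orb_eq hyr, orb_eq hy]
      refine hrx ?_
      have hm : r ∈ d.cl y' := e ▸ self_mem_orb _ _
      have := Set.smul_mem_smul_set (a := x) hm
      rw [cl, smul_orb (show x ∈ normalizer (d.E : Set G) from hxH), hxy'] at this
      exact e ▸ this
  have hle := Set.ncard_le_ncard hsub (Set.toFinite _)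
  rw [hdiff] at hle
  have hall : A = d.N1 \ d.cl q := by
    refine Set.eq_of_subset_of_ncard_le hsub ?_ (Set.toFinite _)
    rw [hdiff]
    by_contra hlt
    have h80 : A.ncard = 80 := by
      unfold Nat.ModEq at hmod
      omega
    obtain ⟨r', hr', hr'A⟩ : ∃ r' ∈ d.N1 \ d.cl q, r' ∉ A := by
      by_contra h
      push Not at h
      have := Set.ncard_le_ncard h (Set.toFinite _)
      omega
    have hclr : d.cl r' = (d.N1 \ d.cl q) \ A := by
      refine Set.eq_of_subset_of_ncard_le ?_ ?_ (Set.toFinite _)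
      · rintro y hy
        refine ⟨⟨d.cl_subset hr'.1 hy, fun h => hr'.2 ?_⟩, fun h => hr'A ?_⟩
        · show r' ∈ orb d.E q
          rw [← orb_eq h, orb_eq hy]; exact self_mem_orb _ _
        · refine hclA y h ?_
          rw [cl, orb_eq hy]; exact self_mem_orb _ _
      · rw [d.ncard_cl hr'.1, Set.ncard_sdiff hsub (Set.toFinite _), hdiff, h80]
    have hKK : d.Kc r' = d.Kc q := by
      refine (eq_of_le_of_card_ge ?_ (by rw [d.card_Kc hr'.1, d.card_Kc hq])).symm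
      intro k hk
      refine (d.mem_Kc hk.1).2 ?_
      rw [hclr]
      refine ⟨⟨d.H_N1 hk.1 hr'.1, hout hr'.2 k hk⟩, fun h => hr'A ?_⟩
      have := smul_mem_orb (inv_mem hk) h
      rwa [inv_smul_smul] at this
    obtain ⟨t, ht, ht1⟩ := d.exists_E
    obtain ⟨y, hyt, hy⟩ := d.exists_seven ht ht1
    have hyH := d.cent_le_stab ht ht1 hyt
    -- a seven-cycle carries the class of `q` to that of `r'`
    have hcyc : ∀ s ∈ d.N1, ∃ i : ℕ, s ∈ d.cl (y ^ i • q) := by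
      intro s hs
      by_contra hno
      push Not at hno
      set B := {s | s ∈ d.N1 ∧ ∃ i : ℕ, s ∈ d.cl (y ^ i • q)} with hB
      have hBsub : B ⊆ d.N1 := fun s hs => hs.1
      have h7 := d.seven_dvd hy hyH B (fun h => d.adj_irrefl _ h.1) (fun s ⟨hs1, i, hi⟩ =>
        ⟨d.H_N1 hyH hs1, i + 1, by
          have := Set.smul_mem_smul_set (a := y) hi
          rwa [cl, smul_orb (show y ∈ normalizer (d.E : Set G) from hyH), ← mul_smul, ← pow_succ'] at this⟩)
      have h16' : 16 ∣ B.ncard := dvd_ncard_of_orbits d.E B (fun g hg s ⟨hs1, i, hi⟩ =>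
          ⟨d.H_N1 (d.E_le hg) hs1, i, smul_mem_orb hg hi⟩) (fun s hs => d.ncard_cl hs.1)
      have hpos : 0 < B.ncard := (Set.ncard_pos (Set.toFinite _)).2
        ⟨q, hq, 0, by rw [pow_zero, one_smul]; exact self_mem_orb _ _⟩
      have hlt' : B.ncard < d.N1.ncard := Set.ncard_lt_ncard
        (Set.ssubset_iff_subset_ne.2 ⟨hBsub, fun e => by
          obtain ⟨-, i, hi⟩ := e.ge hs
          exact hno i hi⟩) (Set.toFinite _)
      rw [d.ncard_N1] at hlt'
      omega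
    have hKcl : ∀ {u v : G ⧸ d.H}, u ∈ d.cl v → d.Kc u = d.Kc v := fun {u v} h => by
      rw [Kc, Kc, cl, orb_eq h]
    obtain ⟨j, hj⟩ := hcyc r' hr'.1
    have hj7 : Nat.Coprime 7 j := by
      refine (Nat.Prime.coprime_iff_not_dvd (by norm_num)).2 fun ⟨c, hc⟩ => hr'.2 ?_
      rwa [hc, pow_mul, ← hy, pow_orderOf_eq_one, one_pow, one_smul] at hj
    have hconj : y ^ j ∈ normalizer (d.Kc q : Set G) := by
      refine mem_normalizer_iff_map_conj_eq.2 ((d.Kc_smul (q := q) (pow_mem hyH j)).symm.trans ?_)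
      rw [← hKcl hj, hKK]
    have hyN : y ∈ normalizer (d.Kc q : Set G) := by
      obtain ⟨m, hm⟩ := exists_pow_eq_self_of_coprime (x := y) (n := j) (by rw [hy]; exact hj7.symm)
      rw [← hm]; exact pow_mem hconj m
    refine hrx ?_
    obtain ⟨i, hi⟩ := hcyc r hr
    rw [← d.mem_Kc hxH, hKcl hi, d.Kc_smul (pow_mem hyH i)]
    exact (mem_normalizer_iff_map_conj_eq.1 (pow_mem hyN i)).ge hxK
  -- conclude
  obtain ⟨k, hk, ek⟩ : ∃ k ∈ d.Kc q, k • r = p := hall.ge ⟨hp, hpq⟩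
  obtain ⟨k', hk', ek'⟩ : ∃ k' ∈ d.Kc q, k' • r = p' := hall.ge ⟨hp', hp'q⟩
  set m := k' * k⁻¹ with hm
  have hmK : m ∈ d.Kc q := mul_mem hk' (inv_mem hk)
  have hmp : m • p = p' := by rw [hm, ← ek, ← ek', mul_smul, inv_smul_smul]
  obtain ⟨e, he, hee⟩ : ∃ e ∈ d.E, e • q = m • q := (d.mem_Kc hmK.1).1 hmK
  refine ⟨e⁻¹ * m, mem_inf.2 ⟨mul_mem (inv_mem (d.E_le he)) hmK.1, ?_⟩, ?_⟩
  · rw [MulAction.mem_stabilizer_iff, mul_smul, ← hee, inv_smul_smul]
  · rw [mul_smul, hmp]; exact ⟨e⁻¹, inv_mem he, rfl⟩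

end EData

end CfsgLib.ClassK.M23Nse
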